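import Mathlib.GroupTheory.OrderOfElement
import Mathlib.GroupTheory.Coset.Card
import Mathlib.Tactic.Group

/-!
# A four-group acting on a group of odd order

Elementary decomposition: `x = c * (a * b * a)` with `c` fixed by `t`, `a` inverted by `t` and `τ`,
`b` inverted by `t` and fixed by `τ`.
-/

set_option autoImplicit false

namespace Cfsg.Agent.SmallCent88

variable {G : Type*} [Group G]

/-- The square root of an element of odd order. -/
noncomputable def oddSqrt (x : G) : G := x ^ ((orderOf x + 1) / 2)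

theorem oddSqrt_mul_self {x : G} (hx : Odd (orderOf x)) : oddSqrt x * oddSqrt x = x := by
  obtain ⟨m, hm⟩ := hx
  rw [oddSqrt, ← pow_add, show (orderOf x + 1) / 2 + (orderOf x + 1) / 2 = orderOf x + 1 by omega,
    pow_succ, pow_orderOf_eq_one, one_mul]

theorem eq_of_sq_eq {x y : G} (hx : Odd (orderOf x)) (hy : Odd (orderOf y))
    (h : x * x = y * y) : x = y := by
  obtain ⟨m, hm⟩ := hx.mul hy
  have key : ∀ z : G, orderOf z ∣ orderOf x * orderOf y → z = (z * z) ^ (m + 1) := by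
    intro z hz
    rw [← pow_two, ← pow_mul, show 2 * (m + 1) = orderOf x * orderOf y + 1 by omega, pow_succ,
      orderOf_dvd_iff_pow_eq_one.mp hz, one_mul]
  rw [key x (dvd_mul_right _ _), key y (dvd_mul_left _ _), h]

theorem conj_invol_inv {t : G} (ht : t * t = 1) : t⁻¹ = t := inv_eq_of_mul_eq_one_right ht

theorem conj_invol_mul {t : G} (ht : t * t = 1) (x y : G) :
    t * (x * y) * t = t * x * t * (t * y * t) := by
  rw [show t * x * t * (t * y * t) = t * x * (t * t) * (y * t) by group, ht, mul_one]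
  group

theorem conj_invol_inv' {t : G} (ht : t * t = 1) (x : G) : t * x⁻¹ * t = (t * x * t)⁻¹ := by
  rw [mul_inv_rev, mul_inv_rev, conj_invol_inv ht, mul_assoc]

theorem conj_invol_conj {t : G} (ht : t * t = 1) (x : G) : t * (t * x * t) * t = x := by
  rw [show t * (t * x * t) * t = t * t * x * (t * t) by group, ht, one_mul, mul_one]

theorem conj_invol_pow {t : G} (ht : t * t = 1) (x : G) (n : ℕ) :
    t * x ^ n * t = (t * x * t) ^ n := by
  induction n with
  | zero => simp [ht]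
  | succ n ih => rw [pow_succ, pow_succ, conj_invol_mul ht, ih]

theorem commute_of_conj_eq {t x : G} (ht : t * t = 1) (h : t * x * t = x) : x * t = t * x := by
  conv_lhs => rw [← h]
  rw [mul_assoc, ht, mul_one]

theorem conj_eq_of_commute {t x : G} (ht : t * t = 1) (h : x * t = t * x) : t * x * t = x := by
  rw [mul_assoc, h, ← mul_assoc, ht, one_mul]

/-- Hypotheses: a subgroup of odd-order elements normalized by an involution. -/
structure OddInv (U : Subgroup G) (t : G) : Prop where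
  odd : ∀ x ∈ U, Odd (orderOf x)
  sq : t * t = 1
  mem : ∀ x ∈ U, t * x * t ∈ U

variable {U : Subgroup G} {t τ : G}

theorem OddInv.exists_ci (h : OddInv U t) {x : G} (hx : x ∈ U) :
    ∃ c ∈ U, ∃ i ∈ U, t * c * t = c ∧ t * i * t = i⁻¹ ∧ x = c * i := by
  set y := (t * x * t)⁻¹ * x with hy
  have hyU : y ∈ U := mul_mem (inv_mem (h.mem x hx)) hx
  have hyi : t * y * t = y⁻¹ := by
    rw [hy, conj_invol_mul h.sq, conj_invol_inv' h.sq, conj_invol_conj h.sq, mul_inv_rev, inv_inv]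
  set i := oddSqrt y with hi
  have hiU : i ∈ U := U.pow_mem hyU _
  have hii : i * i = y := oddSqrt_mul_self (h.odd y hyU)
  have hti : t * i * t = i⁻¹ := by rw [hi, oddSqrt, conj_invol_pow h.sq, hyi, inv_pow]
  refine ⟨x * i⁻¹, mul_mem hx (inv_mem hiU), i, hiU, ?_, hti, by group⟩
  rw [conj_invol_mul h.sq, conj_invol_inv' h.sq, hti, inv_inv]
  calc t * x * t * i = t * x * t * (i * i) * i⁻¹ := by group
    _ = x * i⁻¹ := by rw [hii, hy, mul_inv_cancel_left]

theorem OddInv.ci_unique (h : OddInv U t) {c c' i i' : G} (hi : i ∈ U) (hi' : i' ∈ U)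
    (hc : t * c * t = c) (hc' : t * c' * t = c') (hti : t * i * t = i⁻¹) (hti' : t * i' * t = i'⁻¹)
    (he : c * i = c' * i') : c = c' ∧ i = i' := by
  have h2 : c * i⁻¹ = c' * i'⁻¹ := by
    have := congrArg (fun z => t * z * t) he
    simpa only [conj_invol_mul h.sq, hc, hc', hti, hti'] using this
  have h3 : c'⁻¹ * c = i' * i⁻¹ := by
    rw [eq_mul_inv_iff_mul_eq, mul_assoc, he, inv_mul_cancel_left]
  have h4 : c'⁻¹ * c = i'⁻¹ * i := by
    rw [inv_mul_eq_iff_eq_mul]
    calc c = c * i⁻¹ * i := by group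
      _ = c' * (i'⁻¹ * i) := by rw [h2]; group
  have h5 : i * i = i' * i' := by
    calc i * i = i' * (i'⁻¹ * i) * i := by group
      _ = i' * (i' * i⁻¹) * i := by rw [← h4, h3]
      _ = i' * i' := by group
  have h6 := eq_of_sq_eq (h.odd i hi) (h.odd i' hi') h5
  subst h6
  exact ⟨mul_right_cancel he, rfl⟩

/-- The geometric mean is unique. -/
theorem mid_unique {c d j i : G} (hc : Odd (orderOf (c * j))) (hd : Odd (orderOf (d * j)))
    (h1 : c * j * c = i) (h2 : d * j * d = i) : c = d := by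
  refine mul_right_cancel (b := j) (eq_of_sq_eq hc hd ?_)
  calc c * j * (c * j) = i * j := by rw [← h1]; group
    _ = d * j * (d * j) := by rw [← h2]; group

theorem OddInv.exists_aba (h : OddInv U t) (h' : OddInv U τ) (hc : t * τ = τ * t) {i : G}
    (hi : i ∈ U) (hti : t * i * t = i⁻¹) :
    ∃ a ∈ U, ∃ b ∈ U, t * a * t = a⁻¹ ∧ τ * a * τ = a⁻¹ ∧ t * b * t = b⁻¹ ∧ τ * b * τ = b ∧
      i = a * b * a := by
  set j := τ * i * τ with hj
  have hjU : j ∈ U := h'.mem i hi
  have htj : t * j * t = j⁻¹ := by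
    rw [hj, show t * (τ * i * τ) * t = (t * τ) * i * (τ * t) by group, hc, ← hc,
      show t * τ * i * (t * τ) = t * τ * i * (τ * t) by rw [hc],
      show t * τ * i * (τ * t) = (t * τ) * i * τ * t by group, hc,
      show τ * t * i * τ * t = τ * (t * i) * (τ * t) by group, ← hc,
      show τ * (t * i) * (t * τ) = τ * (t * i * t) * τ by group, hti, conj_invol_inv' h'.sq]
  set q := oddSqrt (i * j) with hq
  have hqU : q ∈ U := U.pow_mem (mul_mem hi hjU) _
  have hqq : q * q = i * j := oddSqrt_mul_self (h.odd _ (mul_mem hi hjU))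
  set cc := q * j⁻¹ with hcc
  have hccU : cc ∈ U := mul_mem hqU (inv_mem hjU)
  have hmid : cc * j * cc = i := by
    calc cc * j * cc = q * q * j⁻¹ := by rw [hcc]; group
      _ = i := by rw [hqq, mul_inv_cancel_right]
  have hodd : ∀ z ∈ U, Odd (orderOf (z * j)) := fun z hz => h.odd _ (mul_mem hz hjU)
  have htcc : t * cc * t = cc⁻¹ := by
    refine inv_inj.mp (Eq.trans ?_ (inv_inv cc).symm)
    refine mid_unique (hodd _ (inv_mem (h.mem cc hccU))) (hodd _ hccU) ?_ hmid
    have h1 : t * cc * t * j⁻¹ * (t * cc * t) = i⁻¹ := by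
      rw [← htj, ← conj_invol_mul h.sq, ← conj_invol_mul h.sq, hmid, hti]
    rw [← inv_inv i, ← h1]
    group
  have hτcc : τ * cc * τ = cc⁻¹ := by
    refine inv_inj.mp (Eq.trans ?_ (inv_inv cc).symm)
    refine mid_unique (hodd _ (inv_mem (h'.mem cc hccU))) (hodd _ hccU) ?_ hmid
    have h1 := congrArg (fun z => τ * z * τ) hmid
    simp only [conj_invol_mul h'.sq] at h1
    rw [show τ * j * τ = i from conj_invol_conj h'.sq i, ← hj] at h1
    rw [← h1]
    group
  set a := oddSqrt cc with ha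
  have haU : a ∈ U := U.pow_mem hccU _
  have haa : a * a = cc := oddSqrt_mul_self (h.odd cc hccU)
  have hta : t * a * t = a⁻¹ := by rw [ha, oddSqrt, conj_invol_pow h.sq, htcc, inv_pow]
  have hτa : τ * a * τ = a⁻¹ := by rw [ha, oddSqrt, conj_invol_pow h'.sq, hτcc, inv_pow]
  refine ⟨a, haU, a⁻¹ * i * a⁻¹, mul_mem (mul_mem (inv_mem haU) hi) (inv_mem haU), hta, hτa, ?_, ?_,
    by group⟩
  · rw [conj_invol_mul h.sq, conj_invol_mul h.sq, conj_invol_inv' h.sq, hta, hti]
    group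
  · rw [conj_invol_mul h'.sq, conj_invol_mul h'.sq, conj_invol_inv' h'.sq, hτa, ← hj, inv_inv]
    rw [← hmid, ← haa]
    group

theorem OddInv.aba_unique (h : OddInv U t) (h' : OddInv U τ) {a b a' b' : G} (ha : a ∈ U)
    (hb : b ∈ U) (ha' : a' ∈ U) (_hb' : b' ∈ U) (hτa : τ * a * τ = a⁻¹) (hτa' : τ * a' * τ = a'⁻¹)
    (hτb : τ * b * τ = b) (hτb' : τ * b' * τ = b') (he : a * b * a = a' * b' * a') :
    a = a' ∧ b = b' := by
  set j := τ * (a * b * a) * τ with hj
  have hjU : j ∈ U := h'.mem _ (mul_mem (mul_mem ha hb) ha)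
  have key : ∀ x y : G, τ * x * τ = x⁻¹ → τ * y * τ = y → x * y * x = a * b * a →
      x * x * j * (x * x) = a * b * a := by
    intro x y hx hy hxy
    rw [hj, ← hxy, conj_invol_mul h'.sq, conj_invol_mul h'.sq, hx, hy]
    group
  have h1 := mid_unique (h.odd _ (mul_mem (mul_mem ha ha) hjU))
    (h.odd _ (mul_mem (mul_mem ha' ha') hjU)) (key a b hτa hτb rfl) (key a' b' hτa' hτb' he.symm)
  have h2 := eq_of_sq_eq (h.odd a ha) (h.odd a' ha') h1
  subst h2
  exact ⟨rfl, mul_left_cancel (mul_right_cancel he)⟩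

/-- Elements of `U` fixed by `t`. -/
def fixIn (U : Subgroup G) (t : G) : Subgroup G := U ⊓ Subgroup.centralizer ({t} : Set G)

theorem mem_fixIn {x : G} : x ∈ fixIn U t ↔ x ∈ U ∧ x * t = t * x := by
  rw [fixIn, Subgroup.mem_inf, Subgroup.mem_centralizer_singleton_iff]

theorem OddInv.tτ (h : OddInv U t) (h' : OddInv U τ) (hc : t * τ = τ * t) : OddInv U (t * τ) where
  odd := h.odd
  sq := by rw [show t * τ * (t * τ) = t * (τ * t) * τ by group, ← hc, ← mul_assoc, h.sq, one_mul, h'.sq]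
  mem x hx := by
    have := h.mem _ (h'.mem x hx)
    rwa [show t * τ * x * (t * τ) = t * (τ * x * τ) * t by rw [hc]; nth_rw 1 [← hc]; group]

theorem OddInv.gen (h : OddInv U t) (h' : OddInv U τ) (hc : t * τ = τ * t) {H : Subgroup G}
    (h1 : fixIn U t ≤ H) (h2 : fixIn U τ ≤ H) (h3 : fixIn U (t * τ) ≤ H) : U ≤ H := by
  intro x hx
  obtain ⟨c, hcU, i, hiU, htc, hti, rfl⟩ := h.exists_ci hx
  obtain ⟨a, haU, b, hbU, hta, hτa, -, hτb, rfl⟩ := h.exists_aba h' hc hiU hti
  have ha : a ∈ H := by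
    refine h3 (mem_fixIn.mpr ⟨haU, commute_of_conj_eq (h.tτ h' hc).sq ?_⟩)
    rw [show t * τ * a * (t * τ) = t * (τ * a * τ) * t by rw [hc]; nth_rw 1 [← hc]; group, hτa,
      conj_invol_inv' h.sq, hta, inv_inv]
  exact mul_mem (h1 (mem_fixIn.mpr ⟨hcU, commute_of_conj_eq h.sq htc⟩))
    (mul_mem (mul_mem ha (h2 (mem_fixIn.mpr ⟨hbU, commute_of_conj_eq h'.sq hτb⟩))) ha)

/-- The Brauer–Wielandt order formula for a four group. -/
theorem OddInv.card_formula [Finite G] (h : OddInv U t) (h' : OddInv U τ) (hc : t * τ = τ * t) :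
    Nat.card U * Nat.card (fixIn (fixIn U t) τ) ^ 2 =
      Nat.card (fixIn U t) * Nat.card (fixIn U τ) * Nat.card (fixIn U (t * τ)) := by
  have h'' := h.tτ h' hc
  let A := {a : G // a ∈ U ∧ t * a * t = a⁻¹ ∧ τ * a * τ = a⁻¹}
  let B := {b : G // b ∈ U ∧ t * b * t = b⁻¹ ∧ τ * b * τ = b}
  have hττ : ∀ x : G, t * τ * x * (t * τ) = t * (τ * x * τ) * t := fun x => by
    rw [hc]; nth_rw 1 [← hc]; group
  have eU : Nat.card U = Nat.card (fixIn U t) * Nat.card A * Nat.card B := by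
    rw [← Nat.card_prod, ← Nat.card_prod]
    refine (Nat.card_eq_of_bijective (fun p : (fixIn U t × A) × B =>
      (⟨(p.1.1 : G) * ((p.1.2 : G) * (p.2 : G) * (p.1.2 : G)), mul_mem (mem_fixIn.mp p.1.1.2).1
        (mul_mem (mul_mem p.1.2.2.1 p.2.2.1) p.1.2.2.1)⟩ : U)) ⟨?_, ?_⟩).symm
    · rintro ⟨⟨⟨c, hc0⟩, ⟨a, haU, hta, hτa⟩⟩, ⟨b, hbU, htb, hτb⟩⟩
        ⟨⟨⟨c', hc0'⟩, ⟨a', haU', hta', hτa'⟩⟩, ⟨b', hbU', htb', hτb'⟩⟩ he
      have he' : c * (a * b * a) = c' * (a' * b' * a') := congrArg Subtype.val he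
      have hinv : ∀ x y : G, t * x * t = x⁻¹ → t * y * t = y⁻¹ → t * (x * y * x) * t = (x * y * x)⁻¹ := by
        intro x y hx hy
        rw [conj_invol_mul h.sq, conj_invol_mul h.sq, hx, hy]; group
      obtain ⟨e1, e2⟩ := h.ci_unique (mul_mem (mul_mem haU hbU) haU) (mul_mem (mul_mem haU' hbU') haU')
        (conj_eq_of_commute h.sq (mem_fixIn.mp hc0).2) (conj_eq_of_commute h.sq (mem_fixIn.mp hc0').2)
        (hinv a b hta htb) (hinv a' b' hta' htb') he'
      obtain ⟨e3, e4⟩ := h.aba_unique h' haU hbU haU' hbU' hτa hτa' hτb hτb' e2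
      subst e1 e3 e4; rfl
    · rintro ⟨x, hx⟩
      obtain ⟨c, hcU, i, hiU, htc, hti, rfl⟩ := h.exists_ci hx
      obtain ⟨a, haU, b, hbU, hta, hτa, htb, hτb, rfl⟩ := h.exists_aba h' hc hiU hti
      exact ⟨((⟨c, mem_fixIn.mpr ⟨hcU, commute_of_conj_eq h.sq htc⟩⟩, ⟨a, haU, hta, hτa⟩),
        ⟨b, hbU, htb, hτb⟩), rfl⟩
  -- fixed points of the two other involutions
  have eF : ∀ s : G, OddInv U s → t * s = s * t →
      (∀ x, x * s = s * x → x * t = t * x → x * τ = τ * x) →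
      (∀ x, x * τ = τ * x → x * t = t * x → x * s = s * x) →
      Nat.card (fixIn U s) = Nat.card (fixIn (fixIn U t) τ) *
        Nat.card {b : G // b ∈ U ∧ t * b * t = b⁻¹ ∧ s * b * s = b} := by
    intro s hs hts hs1 hs2
    rw [← Nat.card_prod]
    refine (Nat.card_eq_of_bijective (fun p : fixIn (fixIn U t) τ ×
        {b : G // b ∈ U ∧ t * b * t = b⁻¹ ∧ s * b * s = b} =>
      (⟨(p.1 : G) * p.2, mem_fixIn.mpr ⟨mul_mem (mem_fixIn.mp (mem_fixIn.mp p.1.2).1).1 p.2.2.1,
        commute_of_conj_eq hs.sq (by rw [conj_invol_mul hs.sq, p.2.2.2.2, conj_eq_of_commute hs.sq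
          (hs2 _ (mem_fixIn.mp p.1.2).2 (mem_fixIn.mp (mem_fixIn.mp p.1.2).1).2)])⟩⟩ :
        fixIn U s)) ⟨?_, ?_⟩).symm
    · rintro ⟨⟨c, hc0⟩, ⟨b, hbU, htb, hsb⟩⟩ ⟨⟨c', hc0'⟩, ⟨b', hbU', htb', hsb'⟩⟩ he
      have he' : c * b = c' * b' := congrArg Subtype.val he
      obtain ⟨e1, e2⟩ := h.ci_unique hbU hbU'
        (conj_eq_of_commute h.sq (mem_fixIn.mp (mem_fixIn.mp hc0).1).2)
        (conj_eq_of_commute h.sq (mem_fixIn.mp (mem_fixIn.mp hc0').1).2) htb htb' he'
      subst e1 e2; rfl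
    · rintro ⟨x, hx⟩
      obtain ⟨hxU, hxs⟩ := mem_fixIn.mp hx
      obtain ⟨c, hcU, i, hiU, htc, hti, rfl⟩ := h.exists_ci hxU
      have hst : ∀ z : G, t * (s * z * s) * t = s * (t * z * t) * s := fun z => by
        rw [show t * (s * z * s) * t = (t * s) * z * (s * t) by group, hts, ← hts,
          show t * s * z * (t * s) = (t * s) * z * t * s by group, hts]
        group
      obtain ⟨e1, e2⟩ := h.ci_unique (hs.mem i hiU) hiU (c := s * c * s) (c' := c)
        (by rw [hst, htc]) htc (by rw [hst, hti, conj_invol_inv' hs.sq]) hti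
        (by rw [← conj_invol_mul hs.sq, conj_eq_of_commute hs.sq hxs])
      exact ⟨(⟨c, mem_fixIn.mpr ⟨mem_fixIn.mpr ⟨hcU, commute_of_conj_eq h.sq htc⟩,
        hs1 c (commute_of_conj_eq hs.sq e1) (commute_of_conj_eq h.sq htc)⟩⟩, ⟨i, hiU, hti, e2⟩), rfl⟩
  have eB := eF τ h' hc (fun _ h1 _ => h1) (fun _ h1 _ => h1)
  have eA := eF (t * τ) h'' (by rw [hc]; nth_rw 2 [← hc]; group)
    (fun x h1 h2 => by
      have : x * (t * (t * τ)) = t * (t * τ) * x := by
        rw [← mul_assoc, h2, mul_assoc, h1, ← mul_assoc]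
      rwa [← mul_assoc t t τ, h.sq, one_mul] at this)
    (fun x h1 h2 => by rw [← mul_assoc, h2, mul_assoc, h1, ← mul_assoc])
  have eA' : Nat.card {b : G // b ∈ U ∧ t * b * t = b⁻¹ ∧ t * τ * b * (t * τ) = b} = Nat.card A := by
    refine Nat.card_congr (Equiv.subtypeEquivRight fun b => and_congr_right fun _ =>
      and_congr_right fun hb => ?_)
    rw [hττ]
    constructor
    · intro e
      have := congrArg (fun z => t * z * t) e
      simpa only [conj_invol_conj h.sq, hb] using this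
    · intro e
      rw [e, conj_invol_inv' h.sq, hb, inv_inv]
  rw [eU, eA, eA', eB]
  ring

end Cfsg.Agent.SmallCent88
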