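import Cfsg.Agent.SmallCent88.Main
import Cfsg.Agent.SmallCent88.Transfer
import Cfsg.Agent.InvChar68.IndexTwoTransfer
import Cfsg.Agent.InvChar68.MaximalClass
import Cfsg.Agent.InvChar68.CharTools
import Cfsg.Agent.FG38.ConjAbSylow
import Cfsg.Agent.S0204
import Cfsg.Agent.S3278
import Cfsg.Agent.S3331
import Cfsg.Agent.S4399
import Cfsg.Agent.S4477

/-!
# Simple groups with an element whose centralizer has order at most four
-/

set_option autoImplicit false
set_option linter.style.haveILetI false

namespace Cfsg.Agent.SmallCent88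

open scoped commutatorElement

universe u

variable {G : Type u} [Group G] [Finite G]

/-- The conclusion. -/
def Known (G : Type u) [Group G] : Prop :=
  Nonempty (G ≃* alternatingGroup (Fin 5)) ∨ Nonempty (G ≃* alternatingGroup (Fin 6)) ∨
    Nonempty (G ≃* alternatingGroup (Fin 7)) ∨
    Nonempty (G ≃* Matrix.ProjectiveSpecialLinearGroup (Fin 2) (ZMod 7))

theorem no_index_two [IsSimpleGroup G] (h4 : 4 ∣ Nat.card G) {N : Subgroup G} (hN : N.index = 2) :
    False := by
  rcases (Subgroup.normal_of_index_eq_two hN).eq_bot_or_eq_top with h | h <;> subst h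
  · rw [Subgroup.index_bot] at hN; omega
  · rw [Subgroup.index_top] at hN; omega

theorem card_cent_conj (g x : G) :
    Nat.card (Subgroup.centralizer ({g * x * g⁻¹} : Set G)) =
      Nat.card (Subgroup.centralizer ({x} : Set G)) := by
  refine (Nat.card_congr ((MulAut.conj g).toEquiv.subtypeEquiv fun y => ?_)).symm
  rw [Subgroup.mem_centralizer_singleton_iff, Subgroup.mem_centralizer_singleton_iff]
  show y * x = x * y ↔ g * y * g⁻¹ * (g * x * g⁻¹) = g * x * g⁻¹ * (g * y * g⁻¹)
  refine ⟨commute_conj, fun h => ?_⟩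
  have := commute_conj (c := g⁻¹) h
  simpa [mul_assoc] using this

/-- A cyclic subgroup centralizing an element is no larger than the centralizer. -/
theorem orderOf_le_card_cent {x y : G} (h : y * x = x * y) :
    orderOf y ≤ Nat.card (Subgroup.centralizer ({x} : Set G)) := by
  rw [← Nat.card_zpowers]
  exact Subgroup.card_le_of_le
    (Subgroup.zpowers_le.mpr (Subgroup.mem_centralizer_singleton_iff.mpr h))

theorem relIndex_zpowers (S : Subgroup G) {r : G} (hr : r ∈ S) (h : Nat.card S = 2 * orderOf r) :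
    (Subgroup.zpowers r).relIndex S = 2 := by
  have h1 := Subgroup.index_mul_card ((Subgroup.zpowers r).subgroupOf S)
  rw [Nat.card_congr (Subgroup.subgroupOfEquivOfLe (Subgroup.zpowers_le.mpr hr)).toEquiv,
    Nat.card_zpowers, h] at h1
  exact Nat.eq_of_mul_eq_mul_right (orderOf_pos r) h1

theorem exists_four_dvd [IsSimpleGroup G] (hG : ¬ IsCyclic G) :
    4 ∣ Nat.card G ∧ ∀ S : Sylow 2 G, 4 ∣ Nat.card (S : Subgroup G) ∧
      ∃ x y : (S : Subgroup G), orderOf x = 2 ∧ orderOf y = 2 ∧ x ≠ y := by
  haveI : Fact (Nat.Prime 2) := ⟨Nat.prime_two⟩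
  obtain ⟨E, hE⟩ := S0204.result hG
  have hEp : IsPGroup 2 E := IsPGroup.of_card (n := 2) (by rw [hE.card_four]; norm_num)
  obtain ⟨Q, hQ⟩ := hEp.exists_le_sylow
  refine ⟨hE.card_four ▸ Subgroup.card_subgroup_dvd_card E, fun S => ?_⟩
  have e : (Q : Subgroup G) ≃* (S : Subgroup G) := Sylow.equiv Q S
  refine ⟨?_, ?_⟩
  · rw [← Nat.card_congr e.toEquiv, ← hE.card_four]
    exact Subgroup.card_dvd_of_le hQ
  haveI : Fintype E := Fintype.ofFinite _
  have ho : ∀ z : E, z ≠ 1 → orderOf z = 2 := fun z hz =>
    orderOf_eq_prime (by rw [← hE.exponent_two]; exact Monoid.pow_exponent_eq_one z) hz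
  obtain ⟨a, ha, b, hb, hab⟩ : ∃ a : E, a ≠ 1 ∧ ∃ b : E, b ≠ 1 ∧ a ≠ b := by
    classical
    have h4 : Fintype.card E = 4 := by rw [← Nat.card_eq_fintype_card, hE.card_four]
    have h3 : 1 < (Finset.univ.erase (1 : E)).card := by
      rw [Finset.card_erase_of_mem (Finset.mem_univ _), Finset.card_univ, h4]; norm_num
    obtain ⟨a, ha, b, hb, hab⟩ := Finset.one_lt_card.mp h3
    exact ⟨a, (Finset.mem_erase.mp ha).1, b, (Finset.mem_erase.mp hb).1, hab⟩
  refine ⟨e ⟨a, hQ a.2⟩, e ⟨b, hQ b.2⟩, ?_, ?_, fun h => hab ?_⟩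
  · rw [MulEquiv.orderOf_eq, Subgroup.orderOf_mk, Subgroup.orderOf_coe]; exact ho a ha
  · rw [MulEquiv.orderOf_eq, Subgroup.orderOf_mk, Subgroup.orderOf_coe]; exact ho b hb
  · exact Subtype.ext (congrArg Subtype.val (e.injective h) : _)

/-- An involution with centralizer of order four of exponent two. -/
theorem case_klein [IsSimpleGroup G] (hG : ¬ IsCyclic G) {w : G} (hw : orderOf w = 2)
    (hC : Nat.card (Subgroup.centralizer ({w} : Set G)) = 4)
    (hexp : ∀ g : G, g * w = w * g → g * g = 1) : Nonempty (G ≃* alternatingGroup (Fin 5)) := by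
  haveI : Fact (Nat.Prime 2) := ⟨Nat.prime_two⟩
  obtain ⟨h4, -⟩ := exists_four_dvd hG
  set C := Subgroup.centralizer ({w} : Set G) with hCdef
  have hCp : IsPGroup 2 C := IsPGroup.of_card (n := 2) (by rw [hC]; norm_num)
  obtain ⟨S, hS⟩ := hCp.exists_le_sylow
  rcases (Nat.le_of_dvd Nat.card_pos (Subgroup.card_dvd_of_le hS) : Nat.card C ≤ _).eq_or_lt with h | h
  · haveI : Nontrivial C := by
      rw [← Finite.one_lt_card_iff_nontrivial, hC]; norm_num
    have hK : IsKleinFour C := by
      refine ⟨hC, (Monoid.exponent_eq_prime_iff Nat.prime_two).mpr fun z hz => ?_⟩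
      exact orderOf_two_of (Subtype.ext
        (hexp z (Subgroup.mem_centralizer_singleton_iff.mp z.2))) hz
    refine S3278.result w hw C le_rfl hK (by simp [hCdef]) ?_
    rw [Subgroup.subgroupOf_self]
    infer_instance
  · exfalso
    rw [hC] at h
    have hwS : w ∈ (S : Subgroup G) := hS (Subgroup.mem_centralizer_singleton_iff.mpr rfl)
    have hCS : Nat.card (Subgroup.centralizer ({(⟨w, hwS⟩ : (S : Subgroup G))} : Set _)) = 4 := by
      rw [← hC]
      refine Nat.card_congr
        { toFun := fun s => ⟨(s.1 : G), Subgroup.mem_centralizer_singleton_iff.mpr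
            (congrArg Subtype.val (Subgroup.mem_centralizer_singleton_iff.mp s.2))⟩
          invFun := fun z => ⟨⟨z, hS z.2⟩, Subgroup.mem_centralizer_singleton_iff.mpr
            (Subtype.ext (Subgroup.mem_centralizer_singleton_iff.mp z.2))⟩
          left_inv := fun _ => rfl
          right_inv := fun _ => rfl }
    obtain ⟨r, hr, hwr⟩ := InvChar68.exists_cyclic_index_two _ le_rfl S.2
      (x := ⟨w, hwS⟩) (by rw [Subgroup.orderOf_mk]; exact hw) hCS h
    have hcard : Nat.card (S : Subgroup G) = 2 * orderOf (r : G) := by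
      rw [← Subgroup.index_mul_card (Subgroup.zpowers r), hr, Nat.card_zpowers,
        Subgroup.orderOf_coe]
    have hro : 3 ≤ orderOf (r : G) := by omega
    by_cases hex : ∃ g : G, g * w * g⁻¹ ∈ Subgroup.zpowers (r : G)
    · obtain ⟨g, hg⟩ := hex
      have hcm : (r : G) * (g * w * g⁻¹) = g * w * g⁻¹ * r := by
        obtain ⟨i, hi⟩ := Subgroup.mem_zpowers_iff.mp hg
        rw [← hi]
        exact ((Commute.refl (r : G)).zpow_right i).eq
      have h2 := commute_conj (c := g⁻¹) hcm
      rw [show g⁻¹ * (g * w * g⁻¹) * g⁻¹⁻¹ = w by group] at h2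
      have h3 := orderOf_dvd_of_pow_eq_one (x := g⁻¹ * (r : G) * g⁻¹⁻¹) (n := 2)
        (by rw [pow_two]; exact hexp _ h2)
      rw [orderOf_conj'] at h3
      have := Nat.le_of_dvd two_pos h3
      omega
    · push Not at hex
      obtain ⟨N, -, hN, -⟩ := InvChar68.thompson_transfer S (Subgroup.zpowers (r : G))
        (relIndex_zpowers _ r.2 hcard) hw hwS fun g _ => hex g
      exact no_index_two h4 hN

/-- The structure of a Sylow 2-subgroup containing a self-centralizing element of order four. -/
theorem ab_klein {S : Type*} [Group S] [Finite S] (hS : IsPGroup 2 S) (hnc : ¬ IsCyclic S) {w : S}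
    (hC : Nat.card (Subgroup.centralizer ({w} : Set S)) = 4) :
    Nat.card (Abelianization S) = 4 ∧ ∀ x : Abelianization S, x ^ 2 = 1 := by
  haveI : Fact (Nat.Prime 2) := ⟨Nat.prime_two⟩
  have hab : ¬ IsCyclic (Abelianization S) := fun h =>
    hnc (S4477.isCyclic_of_isCyclic_abelianization hS h)
  have hle : Nat.card (Abelianization S) ≤ 4 := by
    have h1 := InvChar68.card_isConj_mul_card_centralizer w
    rw [hC] at h1
    have hmem : ∀ y : {y : S // IsConj w y}, w⁻¹ * (y : S) ∈ commutator S := by
      rintro ⟨y, hy⟩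
      obtain ⟨c, rfl⟩ := isConj_iff.mp hy
      rw [commutator_def, show w⁻¹ * (c * w * c⁻¹) = ⁅w⁻¹, c⁆ by simp [commutatorElement_def, mul_assoc]]
      exact Subgroup.commutator_mem_commutator (Subgroup.mem_top _) (Subgroup.mem_top _)
    have h2 : Nat.card {y : S // IsConj w y} ≤ Nat.card (commutator S) :=
      Nat.card_le_card_of_injective (fun y => (⟨_, hmem y⟩ : commutator S)) fun a b h =>
        Subtype.ext (mul_left_cancel (congrArg Subtype.val h))
    have h3 : Nat.card (Abelianization S) * Nat.card (commutator S) = Nat.card S :=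
      Subgroup.index_mul_card (commutator S)
    refine Nat.le_of_mul_le_mul_right (c := Nat.card (commutator S)) ?_ Nat.card_pos
    omega
  haveI : Finite (Abelianization S) := inferInstance
  have hpos : 0 < Nat.card (Abelianization S) := Nat.card_pos
  have hcard : Nat.card (Abelianization S) = 4 := by
    by_contra hne
    refine hab ?_
    have h' : Nat.card (Abelianization S) = 1 ∨ Nat.card (Abelianization S) = 2 ∨
        Nat.card (Abelianization S) = 3 := by omega
    rcases h' with h | h | h
    · haveI := (Nat.card_eq_one_iff_unique.mp h).1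
      infer_instance
    · exact isCyclic_of_prime_card h
    · haveI : Fact (Nat.Prime 3) := ⟨Nat.prime_three⟩
      exact isCyclic_of_prime_card h
  refine ⟨hcard, fun x => ?_⟩
  have h4 : orderOf x ∣ 2 ^ 2 := by rw [show 2 ^ 2 = Nat.card (Abelianization S) by rw [hcard]; norm_num]; exact orderOf_dvd_natCard x
  obtain ⟨i, hi, hx⟩ := (Nat.dvd_prime_pow Nat.prime_two).mp h4
  refine orderOf_dvd_iff_pow_eq_one.mp ?_
  interval_cases i
  · simp [hx]
  · simp [hx]
  · exact absurd (isCyclic_of_orderOf_eq_card x (by rw [hx, hcard]; norm_num)) hab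

/-- An element of order four with centralizer of order four. -/
theorem case_four [IsSimpleGroup G] (hG : ¬ IsCyclic G) {w : G} (hw : orderOf w = 4)
    (hC : ∀ g : G, g * w = w * g → g ∈ Subgroup.zpowers w) : Known G := by
  haveI : Fact (Nat.Prime 2) := ⟨Nat.prime_two⟩
  obtain ⟨h4, hSyl⟩ := exists_four_dvd hG
  have hcent : Nat.card (Subgroup.centralizer ({w} : Set G)) = 4 := by
    have : Subgroup.centralizer ({w} : Set G) = Subgroup.zpowers w :=
      le_antisymm (fun g hg => hC g (Subgroup.mem_centralizer_singleton_iff.mp hg))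
        (Subgroup.zpowers_le.mpr (Subgroup.mem_centralizer_singleton_iff.mpr rfl))
    rw [this, Nat.card_zpowers, hw]
  have hwp : IsPGroup 2 (Subgroup.zpowers w) :=
    IsPGroup.of_card (n := 2) (by rw [Nat.card_zpowers, hw]; norm_num)
  obtain ⟨S, hS⟩ := hwp.exists_le_sylow
  have hwS : w ∈ (S : Subgroup G) := hS (Subgroup.mem_zpowers w)
  set ws : (S : Subgroup G) := ⟨w, hwS⟩ with hws
  have hwso : orderOf ws = 4 := by rw [hws, Subgroup.orderOf_mk, hw]
  have hcentS : Subgroup.centralizer ({ws} : Set _) = Subgroup.zpowers ws := by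
    refine le_antisymm (fun s hs => ?_)
      (Subgroup.zpowers_le.mpr (Subgroup.mem_centralizer_singleton_iff.mpr rfl))
    obtain ⟨i, hi⟩ := Subgroup.mem_zpowers_iff.mp
      (hC s (congrArg Subtype.val (Subgroup.mem_centralizer_singleton_iff.mp hs)))
    exact ⟨i, Subtype.ext (by simpa [hws] using hi)⟩
  have hcS : Nat.card (Subgroup.centralizer ({ws} : Set _)) = 4 := by
    rw [hcentS, Nat.card_zpowers, hwso]
  have hnc : ¬ IsCyclic (S : Subgroup G) := fun h => by
    obtain ⟨H, hH⟩ := Involution.exists_index_two_of_cyclic_sylow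
      (even_iff_two_dvd.mpr (dvd_trans (by norm_num) h4)) S h
    exact no_index_two h4 hH
  obtain ⟨hab, hexp⟩ := ab_klein S.2 hnc hcS
  rcases S4399.result S.2 hab hexp with h | ⟨k, ⟨e⟩⟩ | ⟨k, hk, a, b, ha, hb, hbab⟩ | ⟨k, ⟨e⟩⟩
  · refine absurd ?_ hnc
    exact isCyclic_of_orderOf_eq_card ws (by rw [hwso, h])
  · -- dihedral
    have hd : orderOf (e ws) = 4 := by rw [MulEquiv.orderOf_eq, hwso]
    rcases hes : e ws with i | i
    · have hinj : Nat.card (ZMod (2 ^ (k + 2))) ≤ 4 := by
        rw [← hcS]
        refine Nat.card_le_card_of_injective (fun j => (⟨e.symm (DihedralGroup.r j),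
          Subgroup.mem_centralizer_singleton_iff.mpr (e.injective ?_)⟩ :
            Subgroup.centralizer ({ws} : Set _))) fun x y h => ?_
        · rw [map_mul, map_mul, e.apply_symm_apply, hes, DihedralGroup.r_mul_r, DihedralGroup.r_mul_r]
          exact congrArg DihedralGroup.r (add_comm _ _)
        · have := congrArg Subtype.val h
          exact DihedralGroup.r.inj (e.symm.injective this)
      rw [Nat.card_zmod] at hinj
      have hk0 : k = 0 := by
        by_contra hk0
        have : 2 ^ 3 ≤ 2 ^ (k + 2) := Nat.pow_le_pow_right two_pos (by omega)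
        omega
      subst hk0
      haveI := Fintype.ofFinite G
      obtain ⟨τ, hset⟩ := ZStar.Dih.exists_setup (n := 3) le_rfl S e hwS (by rw [hw]; norm_num)
      have hrel : (Subgroup.zpowers w).relIndex (S : Subgroup G) = 2 :=
        relIndex_zpowers _ hwS (by
          rw [Nat.card_congr e.toEquiv, DihedralGroup.nat_card, hw]; norm_num)
      have hsq : ∀ x : G, x ∈ Subgroup.zpowers w → orderOf x = 2 → x = w * w := fun x hx hxo => by
        rw [hset.eq_J_of_sq hx (by rw [← pow_two, ← hxo]; exact pow_orderOf_eq_one x)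
          (fun h => by rw [h, orderOf_one] at hxo; omega), ZStar.Dih.J]
        exact pow_two w
      have hconj : ∀ i : G, orderOf i = 2 → IsConj (w * w) i := by
        intro i hi
        by_cases hex : ∃ g : G, g * i * g⁻¹ ∈ Subgroup.zpowers w
        · obtain ⟨g, hg⟩ := hex
          rw [isConj_comm, isConj_iff]
          exact ⟨g, hsq _ hg (by rw [orderOf_conj', hi])⟩
        · exfalso
          push Not at hex
          have hip : IsPGroup 2 (Subgroup.zpowers i) :=
            IsPGroup.of_card (n := 1) (by rw [Nat.card_zpowers, hi, pow_one])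
          obtain ⟨Q, hQ⟩ := hip.exists_le_sylow
          obtain ⟨g, hg⟩ := MulAction.exists_smul_eq G Q S
          have hgS : g * i * g⁻¹ ∈ (S : Subgroup G) := by
            rw [← hg]
            exact Involution.conj_mem_sylow_smul g (hQ (Subgroup.mem_zpowers i))
          obtain ⟨N, -, hN, -⟩ := InvChar68.thompson_transfer S (Subgroup.zpowers w) hrel
            (u := g * i * g⁻¹) (by rw [orderOf_conj', hi]) hgS fun g' _ => by
              rw [show g' * (g * i * g⁻¹) * g'⁻¹ = g' * g * i * (g' * g)⁻¹ by group]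
              exact hex _
          exact no_index_two h4 hN
      rcases (Cfg.classify ⟨hset, hC, hconj⟩) with h | h | h
      · exact Or.inr (Or.inl h)
      · exact Or.inr (Or.inr (Or.inl h))
      · exact Or.inr (Or.inr (Or.inr h))
    · rw [hes, DihedralGroup.orderOf_sr] at hd
      omega
  · -- semidihedral
    exfalso
    set q := 2 ^ (k + 2) with hq
    have hq4 : 4 ≤ q := by
      rw [hq, show k + 2 = 2 + k by omega, pow_add]
      exact Nat.le_mul_of_pos_right _ (by positivity)
    have ha2 : orderOf a = 2 * q := by rw [ha, hq]; ring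
    have hbb : b * b = 1 := by
      have := pow_orderOf_eq_one b; rwa [hb, pow_two] at this
    have hqd : (2 : ℤ) ∣ (q : ℤ) := ⟨2 ^ (k + 1), by rw [hq]; push_cast; ring⟩
    have hidx : (Subgroup.zpowers a).index = 2 := by
      have h1 := Subgroup.index_mul_card (Subgroup.zpowers a)
      rw [Nat.card_zpowers, hk, ha] at h1
      refine Nat.eq_of_mul_eq_mul_right (show 0 < 2 ^ (k + 3) by positivity) ?_
      rw [h1]; ring
    have hcases : ∀ y : (S : Subgroup G), (∃ j : ℤ, y = a ^ j) ∨ ∃ j : ℤ, y = a ^ j * b := by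
      intro y
      have hbn : b ∉ Subgroup.zpowers a := by
        rintro ⟨j, hj⟩
        have h : b * a * b⁻¹ = a := by rw [← hj]; group
        rw [hbab] at h
        have h' : a ^ (q - 1) = a ^ 1 := by rw [pow_one]; exact h
        rw [pow_eq_pow_iff_modEq, ha2] at h'
        have := h'.eq_of_lt_of_lt (by omega) (by omega)
        omega
      by_cases hy : y ∈ Subgroup.zpowers a
      · exact Or.inl ((Subgroup.mem_zpowers_iff.mp hy).imp fun j h => h.symm)
      · have : y * b⁻¹ ∈ Subgroup.zpowers a := by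
          rw [Subgroup.mul_mem_iff_of_index_two hidx, inv_mem_iff]
          exact ⟨fun h => absurd h hy, fun h => absurd h hbn⟩
        obtain ⟨j, hj⟩ := Subgroup.mem_zpowers_iff.mp this
        exact Or.inr ⟨j, by rw [hj]; group⟩
    have hsquare : ∀ j : ℤ, a ^ j * b * (a ^ j * b) = a ^ ((q : ℤ) * j) := by
      intro j
      have h : b * a ^ j * b⁻¹ = a ^ (((q : ℤ) - 1) * j) := by
        rw [← conj_zpow, hbab, ← zpow_natCast, ← zpow_mul, Nat.cast_sub (by omega), Nat.cast_one]
      rw [inv_eq_of_mul_eq_one_right hbb] at h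
      rw [show a ^ j * b * (a ^ j * b) = a ^ j * (b * a ^ j * b) by group, h, ← zpow_add]
      congr 1; ring
    have heven : ∀ j : ℤ, a ^ ((q : ℤ) * j) = 1 → 2 ∣ j := by
      intro j hj
      have h := orderOf_dvd_iff_zpow_eq_one.mpr hj
      rw [ha2] at h
      push_cast at h
      rw [mul_comm (2 : ℤ)] at h
      exact (mul_dvd_mul_iff_left (show (q : ℤ) ≠ 0 by omega)).mp h
    -- the maximal subgroup
    set π := Abelianization.of (G := (S : Subgroup G))
    have hgen : ∀ z : Abelianization (S : Subgroup G), ∃ i j : ℤ, z = π a ^ i * π b ^ j := by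
      intro z
      obtain ⟨y, rfl⟩ := QuotientGroup.mk_surjective z
      rcases hcases y with ⟨j, rfl⟩ | ⟨j, rfl⟩
      · exact ⟨j, 0, by rw [zpow_zero, mul_one]; exact map_zpow π a j⟩
      · exact ⟨j, 1, by rw [zpow_one, ← map_zpow, ← map_mul]; rfl⟩
    have hncyc : ¬ IsCyclic (Abelianization (S : Subgroup G)) := fun h =>
      hnc (S4477.isCyclic_of_isCyclic_abelianization S.2 h)
    set Z := Subgroup.zpowers (π b) with hZ
    have haZ : π a ∉ Z := fun h => hncyc ⟨π b, fun z => by
      obtain ⟨i, j, rfl⟩ := hgen z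
      exact Z.mul_mem (Z.zpow_mem h i) (Z.zpow_mem (Subgroup.mem_zpowers _) j)⟩
    have hb1 : π b ≠ 1 := fun h => hncyc ⟨π a, fun z => by
      obtain ⟨i, j, rfl⟩ := hgen z
      rw [h, one_zpow, mul_one]
      exact ⟨i, rfl⟩⟩
    have hZi : Z.index = 2 := by
      have h1 := Subgroup.index_mul_card Z
      rw [Nat.card_zpowers, orderOf_two_of (by rw [← pow_two]; exact hexp _) hb1, hab] at h1
      omega
    have hπj : ∀ j : ℤ, 2 ∣ j → π (a ^ j) = 1 := by
      rintro j ⟨i, rfl⟩
      rw [map_zpow, zpow_mul, show (π a) ^ (2 : ℤ) = 1 by exact_mod_cast hexp (π a), one_zpow]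
    set Ms := Z.comap π with hMs
    set M := Ms.map (S : Subgroup G).subtype with hM
    have hMrel : M.relIndex (S : Subgroup G) = 2 := by
      show (M.subgroupOf (S : Subgroup G)).index = 2
      rw [hM, Subgroup.subgroupOf, Subgroup.comap_map_eq_self_of_injective
        (Subgroup.subtype_injective _), hMs]
      exact (Subgroup.index_comap_of_surjective (H := Z) (f := π)
        (fun z => QuotientGroup.mk_surjective z)).trans hZi
    have hmemM : ∀ s : (S : Subgroup G), (s : G) ∈ M ↔ s ∈ Ms := fun s =>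
      ⟨fun ⟨s', hs', h⟩ => Subtype.ext h ▸ hs', fun h => ⟨s, h, rfl⟩⟩
    suffices hh : (∀ g : G, g * w * g⁻¹ ∈ (S : Subgroup G) → g * w * g⁻¹ ∉ M) ∧
        ∀ g : G, g * w ^ 2 * g⁻¹ ∈ (S : Subgroup G) → g * w ^ 2 * g⁻¹ ∈ M by
      obtain ⟨N, -, hN, -⟩ := four_transfer S M hMrel (u := w)
        (by rw [← hw]; exact pow_orderOf_eq_one w) hh.1 hh.2
      exact no_index_two h4 hN
    refine ⟨fun g hg => ?_, fun g hg => ?_⟩
    · rw [show g * w * g⁻¹ = ((⟨_, hg⟩ : (S : Subgroup G)) : G) from rfl, hmemM]
      set y : (S : Subgroup G) := ⟨_, hg⟩ with hy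
      have hyo : orderOf y = 4 := by rw [hy, Subgroup.orderOf_mk, orderOf_conj', hw]
      rcases hcases y with ⟨j, hj⟩ | ⟨j, hj⟩
      · exfalso
        have h8 : orderOf (a : G) ≤ Nat.card (Subgroup.centralizer ({g * w * g⁻¹} : Set G)) := by
          refine orderOf_le_card_cent ?_
          show ((a * y : (S : Subgroup G)) : G) = ((y * a : (S : Subgroup G)) : G)
          rw [hj, ((Commute.refl a).zpow_right j).eq]
        rw [card_cent_conj, hcent, Subgroup.orderOf_coe, ha2] at h8
        omega
      · intro hmem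
        have hjodd : ¬ (2 : ℤ) ∣ j := fun hd => by
          have h := pow_ne_one_of_lt_orderOf (x := y) two_ne_zero (by omega)
          refine h ?_
          rw [pow_two, hj, hsquare]
          obtain ⟨i, rfl⟩ := hd
          rw [← mul_assoc, mul_comm (q : ℤ) 2, zpow_mul,
            show a ^ ((2 : ℤ) * q) = 1 by
              rw [show (2 : ℤ) * q = ((2 * q : ℕ) : ℤ) by push_cast; ring, zpow_natCast, ← ha2,
                pow_orderOf_eq_one], one_zpow]
        apply haZ
        rw [hMs, Subgroup.mem_comap, hj, map_mul] at hmem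
        have h := (Z.mul_mem_cancel_right (Subgroup.mem_zpowers _)).mp hmem
        obtain ⟨i, rfl⟩ : ∃ i, j = 2 * i + 1 := ⟨j / 2, by omega⟩
        rwa [zpow_add_one, map_mul, hπj _ (dvd_mul_right 2 i), one_mul] at h
    · rw [show g * w ^ 2 * g⁻¹ = ((⟨_, hg⟩ : (S : Subgroup G)) : G) from rfl, hmemM]
      set y : (S : Subgroup G) := ⟨_, hg⟩ with hy
      have hyy : y * y = 1 := Subtype.ext (by
        show g * w ^ 2 * g⁻¹ * (g * w ^ 2 * g⁻¹) = 1
        rw [show g * w ^ 2 * g⁻¹ * (g * w ^ 2 * g⁻¹) = g * w ^ 4 * g⁻¹ by group, ← hw,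
          pow_orderOf_eq_one]
        group)
      rw [hMs, Subgroup.mem_comap]
      rcases hcases y with ⟨j, hj⟩ | ⟨j, hj⟩
      · rw [hj, hπj j ?_]
        · exact one_mem _
        have h2 : a ^ ((2 : ℤ) * j) = 1 := by rw [two_mul, zpow_add, ← hj, hyy]
        have h := orderOf_dvd_iff_zpow_eq_one.mpr h2
        rw [ha2] at h
        push_cast at h
        exact hqd.trans ((mul_dvd_mul_iff_left two_ne_zero).mp h)
      · rw [hj, map_mul, hπj j (heven j (by rw [← hsquare, ← hj, hyy])), one_mul]
        exact Subgroup.mem_zpowers _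
  · exfalso
    obtain ⟨-, x, y, hx, hy, hxy⟩ := hSyl S
    exact hxy (FG38.quaternion_involution_unique e hx hy)

/-- The theorem. -/
theorem known_of_card_centralizer_le_four [IsSimpleGroup G] (hG : ¬ IsCyclic G) (w : G)
    (hw : Nat.card (Subgroup.centralizer ({w} : Set G)) ≤ 4) : Known G := by
  haveI : Fact (Nat.Prime 2) := ⟨Nat.prime_two⟩
  obtain ⟨h4, hSyl⟩ := exists_four_dvd hG
  set C := Subgroup.centralizer ({w} : Set G) with hCdef
  have hwC : w ∈ C := Subgroup.mem_centralizer_singleton_iff.mpr rfl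
  have hdvd : orderOf w ∣ Nat.card C := Subgroup.orderOf_dvd_natCard C hwC
  have hle := Nat.le_of_dvd Nat.card_pos hdvd
  have hpos := orderOf_pos w
  have ho : orderOf w = 1 ∨ orderOf w = 2 ∨ orderOf w = 3 ∨ orderOf w = 4 := by omega
  rcases ho with ho | ho | ho | ho
  · exfalso
    rw [orderOf_eq_one_iff] at ho
    subst ho
    have hC : C = ⊤ := eq_top_iff.mpr fun g _ => Subgroup.mem_centralizer_singleton_iff.mpr (by simp)
    rw [hC, Subgroup.card_top] at hw
    obtain ⟨x, hx⟩ := exists_prime_orderOf_dvd_card' 2 (dvd_trans (by norm_num) h4)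
    have h1 := Subgroup.index_mul_card (Subgroup.zpowers x)
    rw [Nat.card_zpowers, hx] at h1
    have := Nat.le_of_dvd Nat.card_pos h4
    exact no_index_two h4 (N := Subgroup.zpowers x) (by omega)
  · have hC2 : Nat.card C = 2 ∨ Nat.card C = 4 := by
      rw [ho] at hdvd
      have := Nat.card_pos (α := C)
      omega
    rcases hC2 with hC | hC
    · exfalso
      have hp : IsPGroup 2 (Subgroup.zpowers w) :=
        IsPGroup.of_card (n := 1) (by rw [Nat.card_zpowers, ho, pow_one])
      obtain ⟨S, hS⟩ := hp.exists_le_sylow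
      have hwS : w ∈ (S : Subgroup G) := hS (Subgroup.mem_zpowers w)
      obtain ⟨hS4, -⟩ := hSyl S
      haveI : Nontrivial (S : Subgroup G) := by
        rw [← Finite.one_lt_card_iff_nontrivial]
        have := Nat.le_of_dvd Nat.card_pos hS4
        omega
      haveI := S.2.center_nontrivial
      obtain ⟨i, hi⟩ := IsPGroup.iff_card.mp (S.2.to_subgroup (Subgroup.center (S : Subgroup G)))
      have hi0 : i ≠ 0 := fun h => by
        have := Finite.one_lt_card_iff_nontrivial.mpr
          (inferInstance : Nontrivial (Subgroup.center (S : Subgroup G)))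
        rw [hi, h] at this
        simp at this
      obtain ⟨z, hz⟩ := exists_prime_orderOf_dvd_card' (G := Subgroup.center (S : Subgroup G)) 2
        (by rw [hi]; exact dvd_pow_self 2 (by omega))
      have hzc : ((z : (S : Subgroup G)) : G) ∈ C := Subgroup.mem_centralizer_singleton_iff.mpr
        (congrArg Subtype.val (Subgroup.mem_center_iff.mp z.2 ⟨w, hwS⟩)).symm
      have hCz : C = Subgroup.zpowers w :=
        (Subgroup.eq_of_le_of_card_ge (Subgroup.zpowers_le.mpr hwC)
          (by rw [hC, Nat.card_zpowers, ho])).symm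
      have hzo : orderOf ((z : (S : Subgroup G)) : G) = 2 := by
        rw [Subgroup.orderOf_coe, Subgroup.orderOf_coe, hz]
      rw [hCz] at hzc
      have hzw : Subgroup.zpowers ((z : (S : Subgroup G)) : G) = Subgroup.zpowers w :=
        Subgroup.eq_of_le_of_card_ge (Subgroup.zpowers_le.mpr hzc)
          (by rw [Nat.card_zpowers, Nat.card_zpowers, hzo, ho])
      have hSC : (S : Subgroup G) ≤ C := fun s hs => by
        refine Subgroup.mem_centralizer_singleton_iff.mpr ?_
        obtain ⟨j, hj⟩ := Subgroup.mem_zpowers_iff.mp (hzw ▸ Subgroup.mem_zpowers w :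
          w ∈ Subgroup.zpowers ((z : (S : Subgroup G)) : G))
        rw [← hj]
        exact ((show Commute s ((z : (S : Subgroup G)) : G) from
          congrArg Subtype.val (Subgroup.mem_center_iff.mp z.2 ⟨s, hs⟩)).zpow_right j).eq
      have := Subgroup.card_le_of_le hSC
      have := Nat.le_of_dvd Nat.card_pos hS4
      omega
    · by_cases hexp : ∀ g : G, g * w = w * g → g * g = 1
      · exact Or.inl (case_klein hG ho hC hexp)
      push Not at hexp
      obtain ⟨g, hg, hg2⟩ := hexp
      have hgC : g ∈ C := Subgroup.mem_centralizer_singleton_iff.mpr hg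
      have hgo : orderOf g = 4 := by
        have h := Subgroup.orderOf_dvd_natCard C hgC
        rw [hC, show (4 : ℕ) = 2 ^ 2 by norm_num] at h
        obtain ⟨i, hi, hio⟩ := (Nat.dvd_prime_pow Nat.prime_two).mp h
        interval_cases i
        · exact absurd (by rw [pow_zero, orderOf_eq_one_iff] at hio; rw [hio, one_mul]) hg2
        · exact absurd (by rw [← pow_two]; rw [pow_one] at hio; rw [← hio]; exact pow_orderOf_eq_one g) hg2
        · exact hio
      have hCg : C = Subgroup.zpowers g :=
        (Subgroup.eq_of_le_of_card_ge (Subgroup.zpowers_le.mpr hgC)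
          (by rw [hC, Nat.card_zpowers, hgo])).symm
      have hggo : orderOf (g * g) = 2 := by
        rw [← pow_two, orderOf_pow' _ two_ne_zero, hgo]; norm_num
      obtain ⟨j, hj⟩ := Subgroup.mem_zpowers_iff.mp (hCg ▸ hwC)
      have hwg : w = g * g := by
        rw [← hj]
        rw [← zpow_mod_orderOf, hgo] at hj ⊢
        have hj4 : j % (4 : ℕ) = 0 ∨ j % (4 : ℕ) = 1 ∨ j % (4 : ℕ) = 2 ∨ j % (4 : ℕ) = 3 := by omega
        rcases hj4 with h | h | h | h <;> rw [h] at hj ⊢
        · rw [zpow_zero] at hj; rw [← hj, orderOf_one] at ho; omega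
        · rw [zpow_one] at hj; rw [← hj, hgo] at ho; omega
        · exact zpow_two g
        · exfalso
          rw [← hj, show (3 : ℤ) = ((3 : ℕ) : ℤ) by norm_num, zpow_natCast,
            orderOf_pow' _ (by norm_num), hgo] at ho
          norm_num at ho
      refine case_four hG hgo fun x hx => ?_
      rw [← hCg]
      refine Subgroup.mem_centralizer_singleton_iff.mpr ?_
      rw [hwg]
      exact ((show Commute x g from hx).mul_right (show Commute x g from hx)).eq
  · have hC : Nat.card C = 3 := by
      rw [ho] at hdvd hle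
      omega
    have hX : Subgroup.zpowers w = C :=
      Subgroup.eq_of_le_of_card_ge (Subgroup.zpowers_le.mpr hwC) (by rw [hC, Nat.card_zpowers, ho])
    have hXc : Subgroup.centralizer (Subgroup.zpowers w : Set G) = Subgroup.zpowers w := by
      refine le_antisymm ?_ fun x hx => Subgroup.mem_centralizer_iff.mpr fun y hy => ?_
      · conv_rhs => rw [hX, hCdef]
        exact Subgroup.centralizer_le (by simp [Subgroup.mem_zpowers])
      · exact setLike_mul_comm hy hx
    have hbot : ∀ (N : Subgroup G) (hN : N.Normal), 1 < Nat.card (G ⧸ N) → N = ⊥ := by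
      intro N hN h1
      refine hN.eq_bot_or_eq_top.resolve_right fun h => ?_
      subst h
      rw [← Subgroup.index_eq_card, Subgroup.index_top] at h1
      omega
    rcases S3331.result (Subgroup.zpowers w) (by rw [Nat.card_zpowers, ho]) hXc with
      ⟨N, hN, -, -, hq⟩ | ⟨N, hN, -, -, ⟨e⟩⟩ | h
    · exfalso
      have hq' : Nat.card (G ⧸ N) = 3 ∨ Nat.card (G ⧸ N) = 6 := by
        rcases hq with h | ⟨⟨e⟩⟩
        · exact Or.inl h
        · exact Or.inr (by rw [Nat.card_congr e.toEquiv, Nat.card_perm, Nat.card_fin]; rfl)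
      obtain rfl := hbot N hN (by omega)
      rw [← Subgroup.index_eq_card, Subgroup.index_bot] at hq'
      omega
    · obtain rfl := hbot N hN (by
        rw [Nat.card_congr e.toEquiv, nat_card_alternatingGroup]
        simp [Nat.factorial])
      exact Or.inl ⟨QuotientGroup.quotientBot.symm.trans e⟩
    · exact Or.inr (Or.inr (Or.inr h))
  · have hC : Nat.card C = 4 := by rw [ho] at hle; omega
    have hX : Subgroup.zpowers w = C :=
      Subgroup.eq_of_le_of_card_ge (Subgroup.zpowers_le.mpr hwC) (by rw [hC, Nat.card_zpowers, ho])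
    exact case_four hG ho fun x hx => hX ▸ Subgroup.mem_centralizer_singleton_iff.mpr hx

end Cfsg.Agent.SmallCent88
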