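import Mathlib.Tactic.LinearCombination
import Mathlib.Tactic.IntervalCases
import Mathlib.Tactic.NormNum
import Mathlib.Data.Int.GCD
import Mathlib.RingTheory.Int.Basic
import Mathlib.Algebra.Order.Ring.Int

/-!
# The Diophantine analysis for a self-centralizing element of order four
-/

set_option autoImplicit false

namespace Cfsg.Agent.SmallCent88

/-- The data: the order `8 k₁ k₂ M` and the three signed degrees. -/
structure Degrees (k₁ k₂ M D D₂ D₃ : ℤ) : Prop where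
  k₁pos : 0 < k₁
  k₂pos : 0 < k₂
  k₁odd : Odd k₁
  k₂odd : Odd k₂
  Modd : Odd M
  Dmod : D % 4 = 1
  Dne : D ≠ 1
  D₂odd : Odd D₂
  D₃odd : Odd D₃
  order : 8 * (k₁ * k₂ * M) * (D - 1) ^ 2 = 64 * D * (D + 1) * (k₁ * k₂) * (k₁ + k₂) ^ 2
  sum : 1 + D + D₂ + D₃ = 0
  pairs : 8 * (k₁ * k₂ * M) * (D * D₂ * D₃ + D₂ * D₃ + D * D₃ + D * D₂) =
    256 * (k₁ * k₂) ^ 2 * (D * D₂ * D₃)

variable {k₁ k₂ M D D₂ D₃ : ℤ}

theorem Degrees.base (h : Degrees k₁ k₂ M D D₂ D₃) :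
    ∃ e j : ℤ, D = 4 * e + 1 ∧ e ≠ 0 ∧ k₁ + k₂ = e * j ∧ M = (4 * e + 1) * (2 * e + 1) * j ^ 2 ∧
      Odd j ∧ ((2 * (k₁ + k₂) + j) ^ 2 - 16 * k₁ * k₂) * (D₂ - D₃) ^ 2 =
        16 * (2 * e + 1) ^ 2 * (k₁ - k₂) ^ 2 := by
  obtain ⟨e, rfl⟩ : ∃ e, D = 4 * e + 1 := ⟨D / 4, by have := h.Dmod; omega⟩
  have he : e ≠ 0 := fun he => h.Dne (by omega)
  have hk : k₁ * k₂ ≠ 0 := mul_ne_zero h.k₁pos.ne' h.k₂pos.ne'
  have hMe : M * e ^ 2 = (4 * e + 1) * (2 * e + 1) * (k₁ + k₂) ^ 2 := by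
    refine mul_left_cancel₀ (mul_ne_zero (show (128 : ℤ) ≠ 0 by norm_num) hk) ?_
    linear_combination h.order
  have hcop : IsCoprime (e ^ 2) ((4 * e + 1) * (2 * e + 1)) :=
    (IsCoprime.mul_right ⟨-4, 1, by ring⟩ ⟨-2, 1, by ring⟩).pow_left
  have hdvd : e ^ 2 ∣ (k₁ + k₂) ^ 2 := hcop.dvd_of_dvd_mul_left ⟨M, by linear_combination -hMe⟩
  obtain ⟨j, hj⟩ := (Int.pow_dvd_pow_iff two_ne_zero).mp hdvd
  have hM : M = (4 * e + 1) * (2 * e + 1) * j ^ 2 := by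
    refine mul_right_cancel₀ (pow_ne_zero 2 he) ?_
    rw [hMe, hj]; ring
  have hjodd : Odd j := by
    have := h.Modd
    rw [hM, Int.odd_mul, Int.odd_pow' two_ne_zero] at this
    exact this.2
  refine ⟨e, j, rfl, he, hj, hM, hjodd, ?_⟩
  have hu : (4 * e + 1 : ℤ) * (2 * e + 1) ≠ 0 := mul_ne_zero (by omega) (by omega)
  have hsum : D₂ + D₃ = -(4 * e + 2) := by have := h.sum; omega
  have hj0 : j ≠ 0 := by obtain ⟨m, rfl⟩ := hjodd; omega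
  have hpairs : (2 * e + 1) * j ^ 2 * ((4 * e + 2) * (D₂ * D₃) + (4 * e + 1) * (D₂ + D₃)) =
      32 * (k₁ * k₂) * (D₂ * D₃) := by
    refine mul_left_cancel₀ (mul_ne_zero (mul_ne_zero (show (8 : ℤ) ≠ 0 by norm_num) hk)
      (left_ne_zero_of_mul hu)) ?_
    have := h.pairs
    rw [hM] at this
    linear_combination this
  rw [hsum] at hpairs
  have hA : 2 * (k₁ + k₂) + j = j * (2 * e + 1) := by rw [hj]; ring
  have hP : ((2 * (k₁ + k₂) + j) ^ 2 - 16 * k₁ * k₂) * (D₂ * D₃) =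
      (4 * e + 1) * (2 * (k₁ + k₂) + j) ^ 2 := by
    rw [hA]
    refine mul_left_cancel₀ (show (2 : ℤ) ≠ 0 by norm_num) ?_
    linear_combination hpairs
  have h4 : (D₂ - D₃) ^ 2 = (4 * e + 2) ^ 2 - 4 * (D₂ * D₃) := by
    rw [show (D₂ - D₃) ^ 2 = (D₂ + D₃) ^ 2 - 4 * (D₂ * D₃) by ring, hsum]; ring
  rw [h4, mul_sub, show ∀ N : ℤ, N * (4 * (D₂ * D₃)) = 4 * (N * (D₂ * D₃)) from fun N => by ring,
    hP, hA]
  linear_combination (-16 * (2 * e + 1) ^ 2 * (k₁ + k₂ + e * j)) * hj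

theorem Degrees.equal {k M D D₂ D₃ : ℤ} (h : Degrees k k M D D₂ D₃)
    (hdvd : k ^ 4 ∣ 8 * (k * k * M)) : (D₂ = -5 ∧ D₃ = -5) ∨ (D₂ = 3 ∧ D₃ = 3) := by
  obtain ⟨e, j, hD, he, hj, hM, hjodd, hdisc⟩ := h.base
  obtain ⟨m, hm⟩ := h.k₁odd
  have hk : k ≠ 0 := h.k₁pos.ne'
  obtain ⟨f, rfl⟩ : ∃ f, e = 2 * f := by
    have h2 : (2 : ℤ) ∣ e * j := ⟨k, by linarith⟩
    rcases Int.prime_two.dvd_or_dvd h2 with ⟨f, hf⟩ | ⟨f, hf⟩
    · exact ⟨f, hf⟩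
    · obtain ⟨i, hi⟩ := hjodd; omega
  have hkf : k = f * j := by linarith
  have h2 : k ^ 2 ∣ M := by
    have h3 : k ^ 2 * k ^ 2 ∣ k ^ 2 * (8 * M) := by
      rwa [← pow_add, show k ^ 2 * (8 * M) = 8 * (k * k * M) by ring]
    have h4 := (mul_dvd_mul_iff_left (pow_ne_zero 2 hk)).mp h3
    refine IsCoprime.dvd_of_dvd_mul_left ?_ h4
    have h5 : IsCoprime k 2 := ⟨1, -m, by rw [hm]; ring⟩
    rw [show (8 : ℤ) = 2 ^ 3 by norm_num]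
    exact h5.pow
  have hj0 : j ^ 2 ≠ 0 := pow_ne_zero 2 (by obtain ⟨i, rfl⟩ := hjodd; omega)
  have h6 : f ^ 2 ∣ (8 * f + 1) * (4 * f + 1) := by
    refine (mul_dvd_mul_iff_right hj0).mp ?_
    rw [← mul_pow, ← hkf]
    refine h2.trans (dvd_of_eq ?_)
    rw [hM]; ring
  have hf : f = 1 ∨ f = -1 := by
    have hc : IsCoprime f ((8 * f + 1) * (4 * f + 1)) :=
      IsCoprime.mul_right ⟨-8, 1, by ring⟩ ⟨-4, 1, by ring⟩
    exact Int.isUnit_iff.mp (hc.isUnit_of_dvd' dvd_rfl ((dvd_pow_self f two_ne_zero).trans h6))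
  have hD23 : D₂ = D₃ := by
    rw [sub_self, zero_pow two_ne_zero, mul_zero, mul_eq_zero] at hdisc
    rcases hdisc with h0 | h0
    · exfalso
      have h7 : (4 * k + j) ^ 2 = 16 * k * k := by linarith
      rw [hkf] at h7
      have h8 : (8 * f + 1) * j ^ 2 = 0 := by linarith
      rcases hf with rfl | rfl <;> rcases mul_eq_zero.mp h8 with h9 | h9 <;>
        first | omega | exact hj0 h9
    · exact sub_eq_zero.mp (pow_eq_zero_iff two_ne_zero |>.mp h0)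
  have := h.sum
  rcases hf with rfl | rfl
  · left; omega
  · right; omega

set_option maxRecDepth 100000 in
theorem enum : ∀ (k : Fin 10) (j : Fin 11) (S : Fin 31), 3 ≤ (k : ℕ) → (k : ℕ) % 2 = 1 →
    ((j : ℕ) : ℤ) - 5 ∣ ((k : ℕ) : ℤ) + 1 →
    (2 * (((k : ℕ) : ℤ) + 1) + (((j : ℕ) : ℤ) - 5)) ^ 2 - 16 * ((k : ℕ) : ℤ) = ((S : ℕ) : ℤ) ^ 2 →
    ((k : ℕ) = 3 ∧ (j : ℕ) = 4) ∨ ((k : ℕ) = 5 ∧ (j : ℕ) = 2) ∨ ((k : ℕ) = 9 ∧ (j : ℕ) = 0) := by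
  decide +kernel

theorem Degrees.one {k M D D₂ D₃ : ℤ} (h : Degrees k 1 M D D₂ D₃) (hk : 3 ≤ k) :
    (k = 3 ∧ 8 * (k * 1 * M) = 2520) ∨ (k = 5 ∧ 8 * (k * 1 * M) = 7560) := by
  obtain ⟨e, j, -, he, hj, hM, hjodd, hdisc⟩ := h.base
  set N := (2 * (k + 1) + j) ^ 2 - 16 * k * 1 with hN
  have hne : D₂ ≠ D₃ := by
    intro hh
    rw [hh, sub_self, zero_pow two_ne_zero, mul_zero] at hdisc
    have h1 : (k - 1) ^ 2 ≠ 0 := pow_ne_zero 2 (by omega)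
    have h2 : (2 * e + 1) ^ 2 ≠ 0 := pow_ne_zero 2 (by omega)
    exact mul_ne_zero (mul_ne_zero (by norm_num) h2) h1 hdisc.symm
  obtain ⟨s, hs⟩ : ∃ s, N = s ^ 2 := by
    have h1 : (D₂ - D₃) ^ 2 ∣ (4 * (2 * e + 1) * (k - 1)) ^ 2 :=
      ⟨N, by linear_combination -hdisc⟩
    obtain ⟨s, hs⟩ := (Int.pow_dvd_pow_iff two_ne_zero).mp h1
    refine ⟨s, mul_right_cancel₀ (pow_ne_zero 2 (sub_ne_zero.mpr hne)) ?_⟩
    calc N * (D₂ - D₃) ^ 2 = (4 * (2 * e + 1) * (k - 1)) ^ 2 := by linear_combination hdisc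
      _ = s ^ 2 * (D₂ - D₃) ^ 2 := by rw [hs]; ring
  obtain ⟨i, hi⟩ := hjodd
  obtain ⟨m, hm⟩ := h.k₁odd
  have he2 : 2 ≤ |e| := by
    have h2 : (2 : ℤ) ∣ e * j := ⟨m + 1, by linarith⟩
    rcases Int.prime_two.dvd_or_dvd h2 with ⟨f, hf⟩ | ⟨f, hf⟩
    · rcases abs_cases e with ⟨ha, _⟩ | ⟨ha, _⟩ <;> omega
    · omega
  have hjb : 2 * |j| ≤ k + 1 := by
    have h3 : |e| * |j| = k + 1 := by rw [← abs_mul, ← hj, abs_of_nonneg (by omega)]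
    nlinarith [abs_nonneg j]
  -- `N = a² + 8 j` with `a` odd
  set a := 2 * k - 2 + j with ha
  have hNa : s ^ 2 = a ^ 2 + 8 * j := by rw [← hs, hN, ha]; ring
  have hsa : |s| ≠ |a| := by
    intro hh
    have : s ^ 2 = a ^ 2 := by rw [← sq_abs, hh, sq_abs]
    omega
  have hsodd : s % 2 ≠ 0 := by
    intro h0
    obtain ⟨r, rfl⟩ : (2 : ℤ) ∣ s := Int.dvd_of_emod_eq_zero h0
    have : (2 * r) ^ 2 = (2 * (k - 1 + i) + 1) ^ 2 + 8 * j := by rw [hNa, ha, hi]; ring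
    ring_nf at this
    omega
  have habs : 4 * |a| - 4 ≤ 8 * |j| := by
    have h1 : |s| % 2 = 1 := by rcases abs_cases s with ⟨h1, _⟩ | ⟨h1, _⟩ <;> omega
    have h2 : |a| % 2 = 1 := by rcases abs_cases a with ⟨h2, _⟩ | ⟨h2, _⟩ <;> omega
    have h3 : |s| ^ 2 = |a| ^ 2 + 8 * j := by rw [sq_abs, sq_abs, hNa]
    rcases lt_or_gt_of_ne hsa with hlt | hgt
    · have : |s| ≤ |a| - 2 := by omega
      nlinarith [abs_nonneg s, neg_abs_le j]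
    · have : |a| + 2 ≤ |s| := by omega
      nlinarith [abs_nonneg a, le_abs_self j]
  have hk9 : k ≤ 9 := by
    rcases abs_cases j with ⟨hj', _⟩ | ⟨hj', _⟩ <;> rcases abs_cases a with ⟨ha', _⟩ | ⟨ha', _⟩ <;>
      omega
  have hjl : -5 ≤ j ∧ j ≤ 5 := by rcases abs_cases j with ⟨hj', _⟩ | ⟨hj', _⟩ <;> omega
  have hsb : |s| ≤ 30 := by
    rw [hN] at hs
    have : s ^ 2 ≤ 30 ^ 2 := by rw [← hs]; nlinarith
    nlinarith [abs_nonneg s, sq_abs s]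
  rw [hN] at hs hdisc
  rw [← sq_abs] at hs
  obtain ⟨k', rfl⟩ : ∃ k' : ℕ, k = k' := ⟨k.toNat, by omega⟩
  obtain ⟨j', rfl⟩ : ∃ j' : ℕ, j = (j' : ℤ) - 5 := ⟨(j + 5).toNat, by omega⟩
  have henum := enum ⟨k', by omega⟩ ⟨j', by omega⟩ ⟨|s|.toNat, by omega⟩ (by simp; omega)
    (by simp; omega) ⟨e, by simp only; linarith⟩
    (by simp only; rw [Int.toNat_of_nonneg (abs_nonneg s)]; linarith [hs, sq_abs s])
  simp only at henum
  rcases henum with ⟨rfl, rfl⟩ | ⟨rfl, rfl⟩ | ⟨rfl, rfl⟩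
  · obtain rfl : e = -4 := by omega
    left; exact ⟨rfl, by rw [hM]; norm_num⟩
  · obtain rfl : e = -2 := by omega
    right; exact ⟨rfl, by rw [hM]; norm_num⟩
  · obtain rfl : e = -2 := by omega
    exfalso
    norm_num at hdisc
    omega

end Cfsg.Agent.SmallCent88
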