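import Cfsg.Agent.SmallCent88.Count
import Cfsg.Agent.Lib.CharCore.Linear
import Cfsg.Agent.Lib.CharClifford.Central
import Mathlib.RepresentationTheory.Invariants

/-!
# Both reflections centralize nontrivial parts of the core
-/

set_option autoImplicit false
set_option linter.style.haveILetI false

namespace Cfsg.Agent.SmallCent88

open scoped ComplexConjugate

variable {G : Type*} [Group G] {P : Sylow 2 G} {σ τ : G}

theorem card_oddCent_conj [Finite G] (c : G) (i : G) :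
    Nat.card (oddCent (c * i * c⁻¹)) = Nat.card (oddCent i) := by
  refine Nat.card_congr ((MulAut.conj c).toEquiv.subtypeEquiv fun x => ⟨conj_mem_oddCent, fun h => ?_⟩).symm
  have h1 := conj_mem_oddCent (c := c⁻¹) h
  simpa [mul_assoc] using h1

namespace Cfg

variable [Finite G] (c : Cfg P σ τ)
include c

theorem mem_fix_τ {x : G} : x * τ = τ * x ∧ Odd (orderOf x) ↔ x ∈ oddCent τ :=
  (c.mem_oddCent c.ord_τ).symm

/-- If both `O1` and `O2` are nontrivial then some nontrivial element of `O2` centralizes the part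
of the core of `C(τ)` inverted by `t`. -/
theorem exists_Z (h1 : O1 σ τ ≠ ⊥) (h2 : O2 σ τ ≠ ⊥) :
    ∃ z ∈ O2 σ τ, z ≠ 1 ∧
      ∀ y ∈ oddCent τ, σ * σ * y * (σ * σ) = y⁻¹ → z * y = y * z := by
  by_contra hno
  push Not at hno
  obtain ⟨y₁, hy₁, hy₁1⟩ := (O1 σ τ).bot_or_exists_ne_one.resolve_left h1
  obtain ⟨z₁, hz₁, hz₁1⟩ := (O2 σ τ).bot_or_exists_ne_one.resolve_left h2
  obtain ⟨U, hU⟩ := c.exists_oddPart_centralizer (oddCent (σ * σ) : Set G) (Set.Subset.refl _)
    hy₁ hy₁1 (c.O1_le hy₁) hz₁ hz₁1 (c.O2_le hz₁)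
  have hconjU : ∀ g : G, (∀ x ∈ oddCent (σ * σ), g⁻¹ * x * g ∈ oddCent (σ * σ)) →
      ∀ x ∈ U, g * x * g⁻¹ ∈ U := by
    intro g hg x hx
    obtain ⟨hxc, hxo⟩ := (hU x).mp hx
    refine (hU _).mpr ⟨Subgroup.mem_centralizer_iff.mpr fun y hy => ?_, by rwa [orderOf_conj']⟩
    have := commute_conj (c := g) (Subgroup.mem_centralizer_iff.mp hxc _ (hg y hy))
    rwa [show g * (g⁻¹ * y * g) * g⁻¹ = y by group] at this
  have hPU : ∀ p ∈ (P : Subgroup G), ∀ x ∈ U, p * x * p⁻¹ ∈ U := fun p hp =>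
    hconjU p fun x hx => by simpa using c.P_conj_mem (inv_mem hp) hx
  have hoddU : ∀ i : G, i ∈ (P : Subgroup G) → i * i = 1 → OddInv U i := fun i hi hii =>
    ⟨fun x hx => ((hU x).mp hx).2, hii, fun x hx => by
      have := hPU i hi x hx; rwa [inv_eq_of_mul_eq_one_right hii] at this⟩
  have hft : fixIn U (σ * σ) ≤ oddCent (σ * σ) := fun x hx =>
    c.mem_O.mpr ⟨(mem_fixIn.mp hx).2, ((hU x).mp (mem_fixIn.mp hx).1).2⟩
  have hfτ : fixIn U τ ≤ oddCent (σ * σ) := by
    intro x hx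
    obtain ⟨hxU, hxτ⟩ := mem_fixIn.mp hx
    obtain ⟨hxc, hxo⟩ := (hU x).mp hxU
    obtain ⟨a, haO, b, hbO, hta, htb, rfl⟩ := (c.oddInv_oddCent c.ord_τ c.tt c.τ_comm.symm).exists_ci
      (c.mem_fix_τ.mp ⟨hxτ, hxo⟩)
    have haO' : a ∈ oddCent (σ * σ) := c.mem_O.mpr
      ⟨commute_of_conj_eq c.tt hta, ((c.mem_oddCent c.ord_τ).mp haO).2⟩
    suffices hb : b = 1 by rw [hb, mul_one]; exact haO'
    have hbc : ∀ y ∈ oddCent (σ * σ), y * b = b * y := fun y hy => by
      have h := Subgroup.mem_centralizer_iff.mp hxc y hy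
      rw [← mul_assoc, (c.σ_inverts hy).2 a haO', mul_assoc a y b, mul_assoc a b y] at h
      exact mul_left_cancel h
    obtain ⟨g, hg1, hg2, -⟩ := c.exists_exchange
    have hgb : g * b * g⁻¹ ∈ O2 σ τ := c.mem_O2.mpr
      ⟨by have := conj_mem_oddCent (c := g) hbO; rwa [hg2] at this, by
        rw [← hg1, show g * (σ * σ) * g⁻¹ * (g * b * g⁻¹) * (g * (σ * σ) * g⁻¹) =
          g * (σ * σ * b * (σ * σ)) * g⁻¹ by group, htb]; group⟩
    by_contra hb1
    refine (fun hall => ?_) (hno _ hgb (fun h => hb1 (conj_eq_one_iff.mp h)))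
    obtain ⟨y, hy, hyt, hne⟩ := hall
    refine hne ?_
    have hy' : g⁻¹ * y * g ∈ oddCent (σ * σ) := by
      have := conj_mem_oddCent (c := g⁻¹) hy
      rwa [inv_inv, show g⁻¹ * τ * g = σ * σ by rw [← hg1]; group] at this
    have := commute_conj (c := g) (hbc _ hy').symm
    rwa [show g * (g⁻¹ * y * g) * g⁻¹ = y by group] at this
  have hftτ : fixIn U (σ * σ * τ) ≤ oddCent (σ * σ) := by
    intro x hx
    obtain ⟨hxU, hxi⟩ := mem_fixIn.mp hx
    have h1 : σ⁻¹ * x * σ⁻¹⁻¹ ∈ fixIn U τ := by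
      refine mem_fixIn.mpr ⟨hPU _ (inv_mem c.S.hσ) x hxU, ?_⟩
      have := commute_conj (c := σ⁻¹) hxi
      rwa [show σ⁻¹ * (σ * σ * τ) * σ⁻¹⁻¹ = τ by rw [← c.στσ]; group] at this
    have := c.P_conj_mem c.S.hσ (hfτ h1)
    rwa [show σ * (σ⁻¹ * x * σ⁻¹⁻¹) * σ⁻¹ = x by group] at this
  have hUO : U ≤ oddCent (σ * σ) :=
    (hoddU _ (mul_mem c.S.hσ c.S.hσ) c.tt).gen (hoddU τ c.S.hτ c.ττ) c.τ_comm.symm hft hfτ hftτ
  have := (c.count h1 fun x => c.hU_of
    fun x hx hxo => hUO ((hU x).mpr ⟨Subgroup.mem_centralizer_iff.mpr hx, hxo⟩)).1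
  exact h2 (Subgroup.card_eq_one.mp this)

/-- The consequences of both parts being nontrivial: a subgroup `U` of order `k⁴`. -/
theorem exists_big (h1 : O1 σ τ ≠ ⊥) (h2 : O2 σ τ ≠ ⊥) :
    Nat.card (O1 σ τ) = Nat.card (O2 σ τ) ∧
    ∃ U : Subgroup G, Nat.card U = Nat.card (O1 σ τ) ^ 4 ∧ OddInv U (σ * σ) ∧
      σ ∈ Subgroup.normalizer (U : Set G) ∧ τ ∈ Subgroup.normalizer (U : Set G) ∧
      fixIn U (σ * σ) = oddCent (σ * σ) ∧
      (∃ b ∈ Subgroup.normalizer (U : Set G), b * (σ * σ) * b⁻¹ = τ) ∧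
      ∃ b ∈ Subgroup.normalizer (U : Set G), b * (σ * σ) * b⁻¹ = σ * τ := by
  have hs1 : O1 σ (σ * τ) ≠ ⊥ := by rw [c.O1_symm]; exact h2
  have hs2 : O2 σ (σ * τ) ≠ ⊥ := by rw [c.O2_symm]; exact h1
  obtain ⟨z, hz, hz1, hzc⟩ := c.exists_Z h1 h2
  obtain ⟨y, hy, hy1, hyc⟩ := c.symm.exists_Z hs1 hs2
  rw [c.O2_symm] at hy
  have hyO := c.O1_le hy
  have hzO := c.O2_le hz
  obtain ⟨U, hU⟩ := c.exists_oddPart_centralizer {y, z}
    (fun x hx => by rcases hx with rfl | rfl <;> assumption) hy hy1 (Or.inl rfl) hz hz1 (Or.inr rfl)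
  have hmem : ∀ x, x ∈ U ↔ (y * x = x * y ∧ z * x = x * z) ∧ Odd (orderOf x) := fun x => by
    rw [hU, Subgroup.mem_centralizer_iff]
    simp
  -- the eight elements of `P` normalize `U`
  have hinv : ∀ p ∈ (P : Subgroup G), ∀ w : G, w = y ∨ w = z →
      p * w * p⁻¹ = w ∨ p * w * p⁻¹ = w⁻¹ := by
    have hσw : ∀ w ∈ oddCent (σ * σ), σ * w * σ⁻¹ = w⁻¹ := fun w hw => (c.σ_inverts hw).1
    intro p hp w hw
    rw [← c.S.gen] at hp
    have hwO : w ∈ oddCent (σ * σ) := by rcases hw with rfl | rfl <;> assumption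
    induction hp using Subgroup.closure_induction with
    | mem x hx =>
      rcases hx with hx | hx
      · rw [hx]; exact Or.inr (hσw w hwO)
      · rw [Set.mem_singleton_iff.mp hx, inv_eq_of_mul_eq_one_right c.ττ]
        rcases hw with rfl | rfl
        · exact Or.inl (c.mem_O1.mp hy).2
        · exact Or.inr (c.mem_O2.mp hz).2
    | one => left; simp
    | mul a b _ _ ha hb =>
      rcases ha with ha | ha <;> rcases hb with hb | hb
      · left; rw [show a * b * w * (a * b)⁻¹ = a * (b * w * b⁻¹) * a⁻¹ by group, hb, ha]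
      · right; rw [show a * b * w * (a * b)⁻¹ = a * (b * w * b⁻¹) * a⁻¹ by group, hb,
          show a * w⁻¹ * a⁻¹ = (a * w * a⁻¹)⁻¹ by group, ha]
      · right; rw [show a * b * w * (a * b)⁻¹ = a * (b * w * b⁻¹) * a⁻¹ by group, hb, ha]
      · left; rw [show a * b * w * (a * b)⁻¹ = a * (b * w * b⁻¹) * a⁻¹ by group, hb,
          show a * w⁻¹ * a⁻¹ = (a * w * a⁻¹)⁻¹ by group, ha, inv_inv]
    | inv a _ ha =>
      rcases ha with ha | ha
      · left; nth_rw 1 [← ha]; group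
      · right
        have h : a * w⁻¹ * a⁻¹ = w := by
          rw [show a * w⁻¹ * a⁻¹ = (a * w * a⁻¹)⁻¹ by group, ha, inv_inv]
        nth_rw 1 [← h]; group
  have hPU : ∀ p ∈ (P : Subgroup G), ∀ x ∈ U, p * x * p⁻¹ ∈ U := by
    intro p hp x hx
    obtain ⟨⟨hxy, hxz⟩, hxo⟩ := (hmem x).mp hx
    have key : ∀ w : G, w = y ∨ w = z → w * x = x * w → w * (p * x * p⁻¹) = p * x * p⁻¹ * w := by
      intro w hw hwx
      rcases hinv p hp w hw with h | h
      · have := commute_conj (c := p) hwx; rwa [h] at this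
      · have := commute_conj (c := p) (show w⁻¹ * x = x * w⁻¹ from
          ((show Commute w x from hwx).inv_left).eq)
        rwa [show p * w⁻¹ * p⁻¹ = w by
          rw [show p * w⁻¹ * p⁻¹ = (p * w * p⁻¹)⁻¹ by group, h, inv_inv]] at this
    exact (hmem _).mpr ⟨⟨key y (Or.inl rfl) hxy, key z (Or.inr rfl) hxz⟩, by rwa [orderOf_conj']⟩
  have hnorm : ∀ p ∈ (P : Subgroup G), p ∈ Subgroup.normalizer (U : Set G) := by
    intro p hp
    rw [Subgroup.mem_normalizer_iff]
    refine fun x => ⟨hPU p hp x, fun h => ?_⟩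
    have := hPU p⁻¹ (inv_mem hp) _ h
    simpa [mul_assoc] using this
  have hoddU : ∀ i : G, i ∈ (P : Subgroup G) → i * i = 1 → OddInv U i := fun i hi hii =>
    ⟨fun x hx => ((hmem x).mp hx).2, hii, fun x hx => by
      have := hPU i hi x hx; rwa [inv_eq_of_mul_eq_one_right hii] at this⟩
  -- the fixed points
  have hft : fixIn U (σ * σ) = oddCent (σ * σ) := by
    ext x
    rw [mem_fixIn, hmem, c.mem_O]
    refine ⟨fun h => ⟨h.2, h.1.2⟩, fun h => ⟨⟨⟨?_, ?_⟩, h.2⟩, h.1⟩⟩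
    · exact (c.σ_inverts hyO).2 x (c.mem_O.mpr h)
    · exact (c.σ_inverts hzO).2 x (c.mem_O.mpr h)
  have hfix : ∀ i : G, orderOf i = 2 → oddCent i ≤ U → fixIn U i = oddCent i := fun i hi hle =>
    le_antisymm (fun x hx => (c.mem_oddCent hi).mpr
      ⟨(mem_fixIn.mp hx).2, ((hmem x).mp (mem_fixIn.mp hx).1).2⟩)
      fun x hx => mem_fixIn.mpr ⟨hle hx, ((c.mem_oddCent hi).mp hx).1⟩
  have hleτ : oddCent τ ≤ U := by
    intro x hx
    obtain ⟨a, haO, b, hbO, hta, htb, rfl⟩ :=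
      (c.oddInv_oddCent c.ord_τ c.tt c.τ_comm.symm).exists_ci hx
    have haO' : a ∈ oddCent (σ * σ) := c.mem_O.mpr
      ⟨commute_of_conj_eq c.tt hta, ((c.mem_oddCent c.ord_τ).mp haO).2⟩
    have hb : b ∈ U := by
      refine (hmem b).mpr ⟨⟨?_, hzc b hbO htb⟩, ((c.mem_oddCent c.ord_τ).mp hbO).2⟩
      exact c.oddCent_comm c.ord_τ ((c.mem_oddCent c.ord_τ).mpr
        ⟨(mem_fixIn.mp hy).2, (c.mem_O.mp hyO).2⟩) hbO
    exact mul_mem (mem_fixIn.mp (hft ▸ haO')).1 hb
  have hleu : oddCent (σ * τ) ≤ U := by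
    intro x hx
    obtain ⟨a, haO, b, hbO, hta, htb, rfl⟩ :=
      (c.oddInv_oddCent c.ord_στ c.tt c.στ_comm.symm).exists_ci hx
    have haO' : a ∈ oddCent (σ * σ) := c.mem_O.mpr
      ⟨commute_of_conj_eq c.tt hta, ((c.mem_oddCent c.ord_στ).mp haO).2⟩
    have hb : b ∈ U := by
      refine (hmem b).mpr ⟨⟨hyc b hbO htb, ?_⟩, ((c.mem_oddCent c.ord_στ).mp hbO).2⟩
      exact c.oddCent_comm c.ord_στ ((c.mem_oddCent c.ord_στ).mpr
        ⟨(mem_fixIn.mp hz).2, (c.mem_O.mp hzO).2⟩) hbO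
    exact mul_mem (mem_fixIn.mp (hft ▸ haO')).1 hb
  have hσU : ∀ i : G, oddCent i ≤ U → oddCent (σ * i * σ⁻¹) ≤ U := fun i hi x hx => by
    have h := conj_mem_oddCent (c := σ⁻¹) hx
    rw [show σ⁻¹ * (σ * i * σ⁻¹) * σ⁻¹⁻¹ = i by group] at h
    have := hPU σ c.S.hσ _ (hi h)
    rwa [show σ * (σ⁻¹ * x * σ⁻¹⁻¹) * σ⁻¹ = x by group] at this
  have hletτ : oddCent (σ * σ * τ) ≤ U := c.στσ ▸ hσU τ hleτ
  have hσu : σ * (σ * τ) * σ⁻¹ = σ * σ * (σ * τ) := c.symm.στσ
  have hletu : oddCent (σ * σ * (σ * τ)) ≤ U := hσu ▸ hσU _ hleu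
  have hO : ∀ i : G, orderOf i = 2 →
      Nat.card (oddCent i) = Nat.card (O1 σ τ) * Nat.card (O2 σ τ) := by
    intro i hi
    obtain ⟨g, hg⟩ := isConj_iff.mp (c.conj i hi)
    rw [← hg, card_oddCent_conj, c.card_O]
  have e1 := (hoddU _ (mul_mem c.S.hσ c.S.hσ) c.tt).card_formula (hoddU τ c.S.hτ c.ττ) c.τ_comm.symm
  have e2 := (hoddU _ (mul_mem c.S.hσ c.S.hσ) c.tt).card_formula
    (hoddU _ (mul_mem c.S.hσ c.S.hτ) c.στστ) c.στ_comm.symm
  rw [hft, hfix τ c.ord_τ hleτ, hfix _ c.ord_tτ hletτ, hO τ c.ord_τ, hO _ c.ord_tτ, c.card_O,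
    ← O1] at e1
  rw [hft, hfix _ c.ord_στ hleu, hfix _ c.symm.ord_tτ hletu, hO _ c.ord_στ, hO _ c.symm.ord_tτ,
    c.card_O, ← O2] at e2
  have hk : Nat.card (O1 σ τ) = Nat.card (O2 σ τ) :=
    Nat.pow_left_injective two_ne_zero (Nat.eq_of_mul_eq_mul_left Nat.card_pos (e1.trans e2.symm))
  refine ⟨hk, U, ?_, hoddU _ (mul_mem c.S.hσ c.S.hσ) c.tt, hnorm σ c.S.hσ, hnorm τ c.S.hτ, hft,
    ?_, ?_⟩
  · rw [← hk] at e1
    refine Nat.eq_of_mul_eq_mul_right (pow_pos (Nat.card_pos (α := O1 σ τ)) 2) ?_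
    rw [e1]; ring
  all_goals
    have key : ∀ j : G, OddInv U j → σ * σ * j = j * (σ * σ) → oddCent j ≤ U →
        oddCent (σ * σ * j) ≤ U → ∀ g : G, g * (σ * σ) * g⁻¹ = j → g * j * g⁻¹ = σ * σ →
        g ∈ Subgroup.normalizer (U : Set G) := by
      intro j hj hcj hle hle' g hg1 hg2
      have hmap : ∀ g : G, g * (σ * σ) * g⁻¹ = j → g * j * g⁻¹ = σ * σ →
          ∀ x ∈ U, g * x * g⁻¹ ∈ U := by
        intro g hg1 hg2
        refine (hoddU _ (mul_mem c.S.hσ c.S.hσ) c.tt).gen hj hcj (H := U.comap (MulAut.conj g).toMonoidHom)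
          ?_ ?_ ?_
        · intro x hx
          rw [hft] at hx
          have := conj_mem_oddCent (c := g) hx
          rw [hg1] at this
          exact hle this
        · intro x hx
          have h := conj_mem_oddCent (c := g) (Subgroup.subset_closure
            (k := {w | w * j = j * w ∧ Odd (orderOf w)})
            ⟨(mem_fixIn.mp hx).2, ((hmem x).mp (mem_fixIn.mp hx).1).2⟩ : x ∈ oddCent j)
          rw [hg2] at h
          have h' : g * x * g⁻¹ ∈ fixIn U (σ * σ) := by rw [hft]; exact h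
          exact (mem_fixIn.mp h').1
        · intro x hx
          have h := conj_mem_oddCent (c := g) (Subgroup.subset_closure
            (k := {w | w * (σ * σ * j) = σ * σ * j * w ∧ Odd (orderOf w)})
            ⟨(mem_fixIn.mp hx).2, ((hmem x).mp (mem_fixIn.mp hx).1).2⟩ : x ∈ oddCent (σ * σ * j))
          rw [show g * (σ * σ * j) * g⁻¹ = g * (σ * σ) * g⁻¹ * (g * j * g⁻¹) by group, hg1, hg2,
            ← hcj] at h
          exact hle' h
      rw [Subgroup.mem_normalizer_iff]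
      refine fun x => ⟨hmap g hg1 hg2 x, fun h => ?_⟩
      have := hmap g⁻¹ (by rw [← hg2]; group) (by rw [← hg1]; group) _ h
      simpa [mul_assoc] using this
  · obtain ⟨g, hg1, hg2, -⟩ := c.exists_exchange
    exact ⟨g, key τ (hoddU τ c.S.hτ c.ττ) c.τ_comm.symm hleτ hletτ g hg1 hg2, hg1⟩
  · obtain ⟨g, hg1, hg2, -⟩ := c.symm.exists_exchange
    exact ⟨g, key _ (hoddU _ (mul_mem c.S.hσ c.S.hτ) c.στστ) c.στ_comm.symm hleu hletu g hg1 hg2,
      hg1⟩

/-- No faithful character of degree 3 or 5 fits. -/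
theorem no_small_char (χ : Cfsg.IrrCharacter G) (δ : ℤ) (d : ℕ)
    (hd : (χ : G → ℂ) 1 = d) (hcase : (d = 3 ∧ δ = 1) ∨ (d = 5 ∧ δ = -1))
    (hval : (χ : G → ℂ) σ = δ) (hker : ∀ g : G, (χ : G → ℂ) g = (χ : G → ℂ) 1 → g = 1)
    (h1 : O1 σ τ ≠ ⊥) (h2 : O2 σ τ ≠ ⊥) : False := by
  classical
  obtain ⟨hk, U, hUc, hUt, hσN, hτN, hft, ⟨b, hbN, hb⟩, ⟨b', hb'N, hb'⟩⟩ := c.exists_big h1 h2
  haveI := Fintype.ofFinite G
  haveI : Fintype U := Fintype.ofFinite _
  obtain ⟨n, ρ, -, hρ⟩ := χ.2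
  set M := Subgroup.normalizer (U : Set G) with hM
  set ρU : Representation ℂ U (Fin n → ℂ) := ρ.comp U.subtype with hρU
  haveI : Invertible (Fintype.card U : ℂ) :=
    invertibleOfNonzero (Nat.cast_ne_zero.mpr Fintype.card_ne_zero)
  set F := ρU.invariants
  have hFmem : ∀ g : M, ∀ v ∈ F, ρ g v ∈ F := by
    intro g v hv x
    have hx : (g : G)⁻¹ * x * g ∈ U := by
      have := (Subgroup.mem_normalizer_iff.mp (inv_mem g.2) (x : G)).mp x.2
      simpa using this
    have h := hv ⟨_, hx⟩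
    show ρ x (ρ g v) = ρ g v
    rw [← Module.End.mul_apply, ← map_mul,
      show (x : G) * g = g * ((g : G)⁻¹ * x * g) by group, map_mul, Module.End.mul_apply]
    exact congrArg (ρ g) h
  let π : Representation ℂ M F :=
    { toFun := fun g => (ρ g).restrict (hFmem g)
      map_one' := LinearMap.ext fun v => Subtype.ext (by simp)
      map_mul' := fun a e => LinearMap.ext fun v => Subtype.ext (by simp [map_mul]) }
  have htr : ∀ g : M, π.character g = (Nat.card U : ℂ)⁻¹ * ∑ x : U, (χ : G → ℂ) ((g : G) * x) := by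
    intro g
    set T := ρ g ∘ₗ ρU.averageMap with hT
    have hTF : ∀ v, T v ∈ F := fun v => hFmem g _ (ρU.averageMap_invariant v)
    have e1 : (T.restrict fun v _ => hTF v) = π g := by
      refine LinearMap.ext fun v => Subtype.ext ?_
      show T v = ρ g v
      rw [hT, LinearMap.comp_apply, ρU.averageMap_id v v.2]
    have e2 : π.character g = LinearMap.trace ℂ _ T := by
      rw [← LinearMap.trace_restrict_eq_of_forall_mem F T hTF, e1]; rfl
    rw [e2, hT]
    have e3 : ρU.averageMap = (⅟(Fintype.card U : ℂ)) • ∑ x : U, ρ (x : G) := by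
      simp [Representation.averageMap, GroupAlgebra.average, hρU, map_sum]
    rw [e3, LinearMap.comp_smul, map_smul, invOf_eq_inv, ← Nat.card_eq_fintype_card, smul_eq_mul]
    congr 1
    rw [← Module.End.mul_eq_comp, Finset.mul_sum, map_sum]
    refine Finset.sum_congr rfl fun x _ => ?_
    rw [← map_mul, ← hρ]; rfl
  -- the trace at `σ`
  have hfp : ∀ x ∈ U, σ * x = x * σ → x = 1 := fun x hx h =>
    c.eq_one_of_commute_four c.ordσ h.symm (hUt.odd x hx)
  have hsurj : ∀ x ∈ U, ∃ v ∈ U, v⁻¹ * σ * v = σ * x := by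
    let f : U → U := fun v => ⟨σ⁻¹ * (v : G)⁻¹ * σ * v, mul_mem (by
      have := (Subgroup.mem_normalizer_iff.mp (inv_mem hσN) ((v : G)⁻¹)).mp (inv_mem v.2)
      simpa using this) v.2⟩
    have hinj : Function.Injective f := by
      intro v w h
      have h' : σ⁻¹ * (v : G)⁻¹ * σ * v = σ⁻¹ * (w : G)⁻¹ * σ * w := congrArg Subtype.val h
      have h'' : (w : G) * (v : G)⁻¹ * σ = σ * ((w : G) * (v : G)⁻¹) := by
        have e := congrArg (fun z => (w : G) * σ * z * (v : G)⁻¹) h'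
        simpa [mul_assoc] using e
      exact Subtype.ext (mul_inv_eq_one.mp (hfp _ (mul_mem w.2 (inv_mem v.2)) h''.symm)).symm
    intro x hx
    obtain ⟨v, hv⟩ := Finite.surjective_of_injective hinj ⟨x, hx⟩
    refine ⟨v, v.2, ?_⟩
    rw [← show σ⁻¹ * (v : G)⁻¹ * σ * v = x from congrArg Subtype.val hv]
    group
  have hσval : π.character ⟨σ, hσN⟩ = (δ : ℂ) := by
    rw [htr, Finset.sum_congr rfl (g := fun _ => (δ : ℂ)), Finset.sum_const, Finset.card_univ,
      ← Nat.card_eq_fintype_card, nsmul_eq_mul,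
      inv_mul_cancel_left₀ (Nat.cast_ne_zero.mpr Nat.card_pos.ne')]
    intro x _
    obtain ⟨v, -, hv⟩ := hsurj x x.2
    show (χ : G → ℂ) (σ * x) = δ
    rw [← hv, ← hval]
    simpa using CharCore.irr_isClassFunction χ σ v⁻¹
  -- parity of the dimension
  set f := Module.finrank ℂ F with hf
  have hfodd : Odd f := by
    obtain ⟨bb, ω, hω, -, -, hkpow⟩ := CharCore.exists_eigenvalues π (⟨σ, hσN⟩ : M)
    rw [show orderOf (⟨σ, hσN⟩ : M) = 4 by rw [Subgroup.orderOf_mk, c.ordσ]] at hω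
    have hre : ∀ i, ∃ r : ℤ, ∃ s : ℤ, ω i = r + s * Complex.I ∧ Odd (r + s) := by
      intro i
      have h : (ω i - 1) * (ω i + 1) * ((ω i - Complex.I) * (ω i + Complex.I)) = 0 := by
        linear_combination hω i + (1 - ω i ^ 2) * Complex.I_sq
      rcases mul_eq_zero.mp h with h | h <;> rcases mul_eq_zero.mp h with h | h
      · exact ⟨1, 0, by rw [sub_eq_zero.mp h]; simp, by decide⟩
      · exact ⟨-1, 0, by rw [eq_neg_of_add_eq_zero_left h]; simp, by decide⟩
      · exact ⟨0, 1, by rw [sub_eq_zero.mp h]; simp, by decide⟩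
      · exact ⟨0, -1, by rw [eq_neg_of_add_eq_zero_left h]; simp, by decide⟩
    choose r s hrs hodd using hre
    have hsum : π.character ⟨σ, hσN⟩ = ((∑ i, r i : ℤ) : ℂ) + ((∑ i, s i : ℤ) : ℂ) * Complex.I := by
      rw [show (⟨σ, hσN⟩ : M) = (⟨σ, hσN⟩ : M) ^ 1 from (pow_one _).symm, hkpow]
      simp only [pow_one, hrs, Finset.sum_add_distrib, ← Finset.sum_mul]
      push_cast; ring
    rw [hσval] at hsum
    have hs0 : ((∑ i, s i : ℤ) : ℝ) = 0 := by
      have := congrArg Complex.im hsum; simp at this; push_cast; linarith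
    have hs0' : (∑ i, s i : ℤ) = 0 := by exact_mod_cast hs0
    have hr : (∑ i, r i : ℤ) = δ := by
      rw [hs0'] at hsum; push_cast at hsum
      have : ((∑ i, r i : ℤ) : ℂ) = ((δ : ℤ) : ℂ) := by push_cast; linear_combination -hsum
      exact_mod_cast this
    have hpar : ∀ S : Finset (Fin (Module.finrank ℂ F)),
        (∑ i ∈ S, (r i + s i)) % 2 = (S.card : ℤ) % 2 := by
      intro S
      induction S using Finset.induction_on with
      | empty => simp
      | @insert a S ha ih =>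
        rw [Finset.sum_insert ha, Finset.card_insert_of_notMem ha]
        have := Int.odd_iff.mp (hodd a); omega
    have h3 := hpar Finset.univ
    rw [Finset.sum_add_distrib, hr, hs0', Finset.card_univ, Fintype.card_fin] at h3
    rcases hcase with ⟨-, rfl⟩ | ⟨-, rfl⟩ <;> rw [Nat.odd_iff] <;> omega
  -- the restriction to `U`
  set ψ : U → ℂ := fun x => (χ : G → ℂ) x
  have hψ : Cfsg.IsCharacter U ψ :=
    CharCore.isCharacter_restrict (CharCore.irr_isCharacter χ) U
  obtain ⟨m, hm⟩ := CharCore.IsCharacter.exists_sum hψ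
  let one : Cfsg.IrrCharacter U := ⟨1, CharCore.isIrrCharacter_one⟩
  have hmult : ∀ θ : Cfsg.IrrCharacter U, Cfsg.classInner ψ θ = m θ := fun θ => by
    rw [hm]; exact CharCore.classInner_sum_all _ θ
  have hm1 : m one = f := by
    have h : π.character (1 : M) = (m one : ℂ) := by
      rw [htr, ← hmult, Cfsg.classInner]
      congr 1
      exact Finset.sum_congr rfl fun x _ => by simp [ψ, one]
    rw [Representation.char_one] at h
    exact_mod_cast h.symm
  choose e he0 hedvd he using fun θ : Cfsg.IrrCharacter U => CharClifford.exists_degree_dvd_card θ.2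
  have hUodd : Odd (Nat.card U) := by
    rw [hUc]; exact c.odd_O1.pow
  have htot : ∑ θ, m θ * e θ = d := by
    have h := congrFun hm 1
    simp only [ψ, OneMemClass.coe_one, hd, Finset.sum_apply, Pi.smul_apply, smul_eq_mul, he] at h
    exact_mod_cast h.symm
  have he1 : e one = 1 := by
    have := he one; simp only [one, Pi.one_apply] at this; exact_mod_cast this.symm
  set R := Finset.univ.erase one
  have hrest : f + ∑ θ ∈ R, m θ * e θ = d := by
    rw [← htot, ← Finset.add_sum_erase _ _ (Finset.mem_univ one), hm1, he1, mul_one]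
  have hUne : U ≠ fixIn U (σ * σ) := by
    intro h
    have h' : Nat.card U = Nat.card (oddCent (σ * σ)) := by rw [← hft, ← h]
    rw [hUc, c.card_O, ← hk] at h'
    have h1' : 1 < Nat.card (O1 σ τ) :=
      Nat.one_lt_iff_ne_zero_and_ne_one.mpr ⟨Nat.card_pos.ne', fun h => h1 (Subgroup.card_eq_one.mp h)⟩
    have := Nat.pow_lt_pow_right h1' (show 2 < 4 by norm_num)
    rw [← pow_two] at h'
    omega
  -- `U` is not centralized by `t`
  have hfinal : (∀ θ ∈ R, m θ ≠ 0 → ∀ x y : U, (y : G) = (x : G)⁻¹ * (σ * σ * x * (σ * σ)) →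
      (θ : U → ℂ) y = (θ : U → ℂ) 1) → False := by
    intro H
    refine hUne (le_antisymm (fun x hx => mem_fixIn.mpr ⟨hx, ?_⟩) inf_le_left)
    have hyU : x⁻¹ * (σ * σ * x * (σ * σ)) ∈ U := mul_mem (inv_mem hx) (hUt.mem x hx)
    have key : (χ : G → ℂ) (x⁻¹ * (σ * σ * x * (σ * σ))) = (χ : G → ℂ) 1 := by
      have h1 := congrFun hm ⟨_, hyU⟩
      have h2 := congrFun hm 1
      simp only [ψ, OneMemClass.coe_one] at h1 h2
      rw [h1, h2]
      simp only [Finset.sum_apply, Pi.smul_apply, smul_eq_mul]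
      refine Finset.sum_congr rfl fun θ _ => ?_
      by_cases hθ : θ = one
      · subst hθ; simp [one]
      by_cases hm0 : m θ = 0
      · simp [hm0]
      rw [H θ (Finset.mem_erase.mpr ⟨hθ, Finset.mem_univ _⟩) hm0 ⟨x, hx⟩ ⟨_, hyU⟩ rfl]
    exact commute_of_conj_eq hUt.sq (inv_mul_eq_one.mp (hker _ key)).symm
  have hfcases : (f = d ∨ (f = 1 ∧ d = 5)) ∨ f + 2 = d := by
    obtain ⟨i, hi⟩ := hfodd
    rcases hcase with ⟨rfl, -⟩ | ⟨rfl, -⟩ <;> omega
  rcases hfcases with (hfd | ⟨hf1, hd5⟩) | hf2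
  · exact hfinal fun θ hθ hm0 => absurd ((mul_eq_zero.mp ((Finset.sum_eq_zero_iff).mp
      (show ∑ θ ∈ R, m θ * e θ = 0 by omega) θ hθ)).resolve_right (he0 θ).ne') hm0
  · -- a linear character of the normalizer with value `-1` at `σ`
    have hδ : δ = -1 := by rcases hcase with ⟨h, -⟩ | ⟨-, h⟩ <;> omega
    have hdeg : π.character (1 : M) = 1 := by rw [Representation.char_one, ← hf, hf1]; simp
    obtain ⟨lam, hl⟩ := CharCore.IsCharacter.exists_hom_of_degree_one
      (CharCore.isCharacter_character π) hdeg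
    have hlσ : (lam ⟨σ, hσN⟩ : ℂ) = -1 := by
      rw [← show π.character ⟨σ, hσN⟩ = (lam ⟨σ, hσN⟩ : ℂ) from congrFun hl _, hσval, hδ]
      norm_num
    set s : M := ⟨σ, hσN⟩
    set t' : M := s * s
    have ht' : lam t' = 1 := by
      rw [map_mul]; exact Units.ext (by push_cast; rw [hlσ]; norm_num)
    have hconjl : ∀ g : M, ∀ w : M, (g : G) * (σ * σ) * (g : G)⁻¹ = w → lam w = 1 := by
      intro g w hgw
      rw [show w = g * t' * g⁻¹ from Subtype.ext hgw.symm, map_mul, map_mul, ht', mul_one, ← map_mul,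
        mul_inv_cancel, map_one]
    have h3 := hconjl ⟨b, hbN⟩ ⟨τ, hτN⟩ hb
    have h4 := hconjl ⟨b', hb'N⟩ (s * ⟨τ, hτN⟩) hb'
    rw [map_mul, h3, mul_one] at h4
    rw [h4] at hlσ
    norm_num at hlσ
  · -- two linear characters exchanged by `σ`
    have hsum2 : ∑ θ ∈ R, m θ * e θ = 2 := by omega
    have hlin : ∀ θ ∈ R, m θ ≠ 0 → e θ = 1 := by
      intro θ hθ hm0
      have h := Finset.single_le_sum (f := fun θ => m θ * e θ) (fun _ _ => Nat.zero_le _) hθ
      rw [hsum2] at h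
      have he2 : e θ ≤ 2 := le_trans (Nat.le_mul_of_pos_left _ (Nat.pos_of_ne_zero hm0)) h
      have := he0 θ
      by_contra hne
      have : e θ = 2 := by omega
      have h2 := hedvd θ
      rw [this] at h2
      exact absurd hUodd (Nat.not_odd_iff_even.mpr (even_iff_two_dvd.mpr h2))
    have hσx : ∀ x : U, σ * x * σ⁻¹ ∈ U := fun x => (Subgroup.mem_normalizer_iff.mp hσN _).mp x.2
    let α : U →* U :=
      { toFun := fun x => ⟨σ * x * σ⁻¹, hσx x⟩
        map_one' := Subtype.ext (by simp)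
        map_mul' := fun a e => Subtype.ext (by simp [mul_assoc]) }
    have hαbij : Function.Bijective α :=
      Finite.injective_iff_bijective.mp fun a a' h => Subtype.ext (by simpa [α] using congrArg Subtype.val h)
    refine hfinal fun θ hθ hm0 => ?_
    obtain ⟨lam, hl⟩ := CharCore.IsCharacter.exists_hom_of_degree_one (CharCore.irr_isCharacter θ)
      (by rw [he θ, hlin θ hθ hm0, Nat.cast_one])
    let tw : (U →* ℂˣ) → Cfsg.IrrCharacter U := fun l =>
      ⟨fun x => (l x : ℂ), CharCore.isIrrCharacter_hom l⟩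
    have htw : tw lam = θ := Subtype.ext hl.symm
    have hmα : ∀ l : U →* ℂˣ, m (tw (l.comp α)) = m (tw l) := by
      intro l
      have h : Cfsg.classInner ψ (tw (l.comp α)) = Cfsg.classInner ψ (tw l) := by
        simp only [Cfsg.classInner]
        congr 1
        refine Fintype.sum_bijective α hαbij _ _ fun x => ?_
        simp only [tw, MonoidHom.comp_apply]
        congr 1
        exact (CharCore.irr_isClassFunction χ (x : G) σ).symm
      rw [hmult, hmult] at h
      exact_mod_cast h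
    have hne : ∀ l : U →* ℂˣ, tw l ≠ one → l.comp α ≠ l := by
      intro l hl1 hla
      apply hl1
      refine Subtype.ext (funext fun x => ?_)
      obtain ⟨v, hvU, hv⟩ := hsurj x x.2
      show (l x : ℂ) = 1
      have hx : (x : G) = σ⁻¹ * v⁻¹ * σ * v := by rw [show σ⁻¹ * v⁻¹ * σ * v = σ⁻¹ * (v⁻¹ * σ * v) by group, hv]; group
      have hy : (⟨v, hvU⟩ : U)⁻¹ = α (x * (⟨v, hvU⟩ : U)⁻¹) := by
        refine Subtype.ext ?_
        show v⁻¹ = σ * ((x : G) * v⁻¹) * σ⁻¹
        rw [hx]; group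
      have := congrArg l hy
      rw [← MonoidHom.comp_apply, hla, map_mul] at this
      rw [show (l x : ℂ) = ((1 : ℂˣ) : ℂ) by rw [mul_eq_right.mp this.symm], Units.val_one]
    -- three distinct constituents would give degree at least three
    by_contra hcon
    push Not at hcon
    obtain ⟨x, y, hxy, hθy⟩ := hcon
    have hone : ∀ l : U →* ℂˣ, tw l = one → l = 1 := fun l h =>
      MonoidHom.ext fun x => Units.ext (congrFun (congrArg Subtype.val h) x)
    have hlne : lam ≠ 1 := fun h => (Finset.mem_erase.mp hθ).1 (by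
      rw [← htw, h]; exact Subtype.ext (funext fun x => by simp [tw, one]))
    set l1 := lam.comp α
    set l2 := l1.comp α
    have hl1ne : l1 ≠ lam := hne lam (fun h => hlne (hone _ h))
    have hcompne : ∀ l : U →* ℂˣ, l ≠ 1 → l.comp α ≠ 1 := fun l hl h => hl (MonoidHom.ext fun x => by
      obtain ⟨x', rfl⟩ := hαbij.2 x
      exact DFunLike.congr_fun h x')
    have hl1one : l1 ≠ 1 := hcompne lam hlne
    have hl2ne : l2 ≠ lam := by
      intro h
      apply hθy
      have e : α (α x) = (⟨σ * σ * x * (σ * σ), hUt.mem x x.2⟩ : U) := by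
        refine Subtype.ext ?_
        show σ * (σ * x * σ⁻¹) * σ⁻¹ = _
        rw [show σ * (σ * (x : G) * σ⁻¹) * σ⁻¹ = σ * σ * x * (σ * σ)⁻¹ by group,
          inv_eq_of_mul_eq_one_right c.tt]
      rw [show y = x⁻¹ * α (α x) from Subtype.ext (by rw [hxy, e]; rfl), ← htw]
      show (lam (x⁻¹ * α (α x)) : ℂ) = (lam 1 : ℂ)
      rw [map_mul, show lam (α (α x)) = l2 x from rfl, h, ← map_mul, inv_mul_cancel]
    have hl2l1 : l2 ≠ l1 := hne l1 (fun h => hl1one (hone _ h))
    have hinj : ∀ l l' : U →* ℂˣ, tw l = tw l' → l = l' := fun l l' h =>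
      MonoidHom.ext fun x => Units.ext (congrFun (congrArg Subtype.val h) x)
    have hmemR : ∀ l : U →* ℂˣ, l ≠ 1 → tw l ∈ R := fun l hl =>
      Finset.mem_erase.mpr ⟨fun h => hl (hone l h), Finset.mem_univ _⟩
    have hsub : ({tw lam, tw l1, tw l2} : Finset (Cfsg.IrrCharacter U)) ⊆ R := by
      intro a ha
      simp only [Finset.mem_insert, Finset.mem_singleton] at ha
      rcases ha with rfl | rfl | rfl
      · exact hmemR _ hlne
      · exact hmemR _ hl1one
      · exact hmemR _ (hcompne l1 hl1one)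
    have hle := Finset.sum_le_sum_of_subset (f := fun θ => m θ * e θ) hsub
    rw [hsum2, Finset.sum_insert (by
        simp only [Finset.mem_insert, Finset.mem_singleton, not_or]
        exact ⟨fun h => hl1ne (hinj _ _ h).symm, fun h => hl2ne (hinj _ _ h).symm⟩),
      Finset.sum_insert (by
        simp only [Finset.mem_singleton]; exact fun h => hl2l1 (hinj _ _ h).symm),
      Finset.sum_singleton] at hle
    have p0 : 0 < m (tw lam) := by rw [htw]; exact Nat.pos_of_ne_zero hm0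
    have p1 : m (tw l1) = m (tw lam) := hmα lam
    have p2 : m (tw l2) = m (tw l1) := hmα l1
    have q : ∀ a : Cfsg.IrrCharacter U, 0 < m a → 1 ≤ m a * e a := fun a ha =>
      Nat.mul_pos ha (he0 a)
    have := q _ p0
    have := q (tw l1) (by omega)
    have := q (tw l2) (by omega)
    omega

end Cfg

end Cfsg.Agent.SmallCent88
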