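import Cfsg.Agent.SmallCent88.BothBig
import Cfsg.Agent.SmallCent88.Arith
import Cfsg.Agent.ZStar.DihedralBlock.Values
import Cfsg.Agent.ZStar.DihedralBlock.OrderFormula
import Cfsg.Agent.InvChar68.CharTools
import Cfsg.Agent.BC86.Modular
import Mathlib.RingTheory.RootsOfUnity.Complex

/-!
# The degrees of the principal block and the equations between them
-/

set_option autoImplicit false
set_option linter.style.haveILetI false

namespace Cfsg.Agent.SmallCent88

open scoped ComplexConjugate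
open Cfsg

variable {G : Type*} [Group G] [Finite G]

/-- The values of a character at the powers of an element of order four sum to a multiple of
four. -/
theorem four_dvd_sum {g : G} (hg : g ^ 4 = 1) (χ : IrrCharacter G) :
    ∃ q : ℕ, (χ : G → ℂ) 1 + (χ : G → ℂ) g + (χ : G → ℂ) (g ^ 2) + (χ : G → ℂ) (g ^ 3) =
      4 * (q : ℂ) := by
  classical
  obtain ⟨n, ρ, -, hρ⟩ := χ.2
  obtain ⟨b, ω, hω, -, -, hk⟩ := CharCore.exists_eigenvalues ρ g
  have h4 : ∀ i, ω i ^ 4 = 1 := fun i => by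
    obtain ⟨r, hr⟩ := orderOf_dvd_of_pow_eq_one hg
    rw [hr, pow_mul, hω i, one_pow]
  refine ⟨(Finset.univ.filter fun i => ω i = 1).card, ?_⟩
  have e : ∀ j : ℕ, (χ : G → ℂ) (g ^ j) = ∑ i, ω i ^ j := fun j => by rw [← hρ, hk]
  rw [← pow_zero g, e, e, e]
  nth_rw 1 [← pow_one g]
  rw [e, ← Finset.sum_add_distrib, ← Finset.sum_add_distrib, ← Finset.sum_add_distrib,
    Finset.card_filter, Nat.cast_sum, Finset.mul_sum]
  refine Finset.sum_congr rfl fun i _ => ?_
  by_cases h : ω i = 1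
  · simp [h]; norm_num
  · simp only [h, if_false, Nat.cast_zero, mul_zero]
    refine (mul_eq_zero.mp ?_).resolve_left (sub_ne_zero.mpr h)
    linear_combination h4 i

/-- In a simple group a nontrivial character taking a value `±1` is faithful. -/
theorem faithful [IsSimpleGroup G] (χ : IrrCharacter G) (h1 : (χ : G → ℂ) ≠ fun _ => 1) {g : G}
    {δ : ℤ} (hδ : δ = 1 ∨ δ = -1) (hg : (χ : G → ℂ) g = δ) :
    ∀ x : G, (χ : G → ℂ) x = (χ : G → ℂ) 1 → x = 1 := by
  haveI := Fintype.ofFinite G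
  set K := CharCore.charKernel (CharCore.irr_isCharacter χ) with hK
  haveI : K.Normal := CharCore.charKernel_normal _
  rcases ‹K.Normal›.eq_bot_or_eq_top with h | h
  · intro x hx
    have : x ∈ K := hx
    rwa [h, Subgroup.mem_bot] at this
  · exfalso
    have hc : ∀ x : G, (χ : G → ℂ) x = (χ : G → ℂ) 1 := fun x => by
      have : x ∈ K := h ▸ Subgroup.mem_top x
      exact this
    obtain ⟨n, hn, hn'⟩ := CharCore.IsIrrCharacter.exists_degree χ.2
    rw [hc g, hn'] at hg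
    have h' : (n : ℤ) = δ := by exact_mod_cast hg
    refine h1 (funext fun x => ?_)
    rw [hc x, hn', show n = 1 by omega, Nat.cast_one]

variable {P : Sylow 2 G} {σ τ : G}

namespace Cfg

variable (c : Cfg P σ τ)
include c

theorem card_cent_σ : Nat.card (Subgroup.centralizer ({σ} : Set G)) = 4 := by
  have : Subgroup.centralizer ({σ} : Set G) = Subgroup.zpowers σ :=
    le_antisymm (fun g hg => c.cent g (Subgroup.mem_centralizer_singleton_iff.mp hg))
      (Subgroup.zpowers_le.mpr (Subgroup.mem_centralizer_singleton_iff.mpr rfl))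
  rw [this, Nat.card_zpowers, c.ordσ]

theorem isConj_t_iff {x : G} : IsConj (σ * σ) x ↔ x * x = 1 ∧ x ≠ 1 := by
  refine ⟨fun h => ?_, fun h => c.conj x (orderOf_two_of h.1 h.2)⟩
  obtain ⟨k, rfl⟩ := isConj_iff.mp h
  refine ⟨?_, fun h1 => c.t_ne (conj_eq_one_iff.mp h1)⟩
  rw [show k * (σ * σ) * k⁻¹ * (k * (σ * σ) * k⁻¹) = k * (σ * σ * (σ * σ)) * k⁻¹ by group, c.tt]
  simp

theorem card_pairs :
    Nat.card {p : G × G // IsConj (σ * σ) p.1 ∧ IsConj (σ * σ) p.2 ∧ p.1 * p.2 = σ} = 4 := by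
  haveI := Fintype.ofFinite G
  have hi : ∀ i : Subgroup.zpowers σ, IsConj (σ * σ) ((i : G) * τ) ∧
      IsConj (σ * σ) ((i : G) * τ * σ) := by
    rintro ⟨i, a, rfl⟩
    have e : σ ^ a * τ * σ = σ ^ (a - 1) * τ := by
      have := c.S.tau_mul_zpow 1
      rw [zpow_one] at this
      rw [mul_assoc, this, ← mul_assoc, ← zpow_add, sub_eq_add_neg]
    refine ⟨c.isConj_t_iff.mpr ⟨c.S.refl_sq a, fun h => c.S.refl_notMem a (h ▸ one_mem _)⟩, ?_⟩
    simp only
    rw [e]
    exact c.isConj_t_iff.mpr ⟨c.S.refl_sq _, fun h => c.S.refl_notMem _ (h ▸ one_mem _)⟩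
  have hii : ∀ i : Subgroup.zpowers σ, (i : G) * τ * ((i : G) * τ) = 1 :=
    fun i => ((c.isConj_t_iff).mp (hi i).1).1
  rw [← c.ordσ, ← Nat.card_zpowers]
  symm
  refine Nat.card_eq_of_bijective (fun i => ⟨((i : G) * τ, (i : G) * τ * σ), (hi i).1, (hi i).2,
    by show (i : G) * τ * ((i : G) * τ * σ) = σ; rw [← mul_assoc, hii, one_mul]⟩) ⟨?_, ?_⟩
  · intro i j h
    exact Subtype.ext (mul_right_cancel (congrArg Prod.fst (congrArg Subtype.val h)))
  · rintro ⟨⟨u, v⟩, hu, hv, huv⟩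
    simp only at hu hv huv
    obtain ⟨huu, -⟩ := c.isConj_t_iff.mp hu
    obtain ⟨hvv, -⟩ := c.isConj_t_iff.mp hv
    have hv' : v = u * σ := by rw [← huv, ← mul_assoc, huu, one_mul]
    have hus : u * σ * u⁻¹ = σ⁻¹ := by
      rw [hv'] at hvv
      rw [inv_eq_of_mul_eq_one_right huu, eq_inv_iff_mul_eq_one, ← hvv]; group
    have hcomm : u * τ * σ = σ * (u * τ) := by
      have h1 := c.τστ
      calc u * τ * σ = u * (τ * σ * τ) * τ := by
            rw [show u * (τ * σ * τ) * τ = u * τ * σ * (τ * τ) by group, c.ττ, mul_one]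
        _ = (u * σ * u⁻¹)⁻¹ * (u * τ) := by rw [h1]; group
        _ = σ * (u * τ) := by rw [hus, inv_inv]
    refine ⟨⟨u * τ, c.cent _ hcomm⟩, Subtype.ext (Prod.ext ?_ ?_)⟩
    · show u * τ * τ = u
      rw [mul_assoc, c.ττ, mul_one]
    · show u * τ * τ * σ = v
      rw [hv', mul_assoc u τ τ, c.ττ, mul_one]

/-- The equations, and a faithful character. -/
theorem exists_data [IsSimpleGroup G] :
    ∃ M D D₂ D₃ : ℤ,
      (Nat.card G : ℤ) = 8 * ((Nat.card (O1 σ τ) : ℤ) * (Nat.card (O2 σ τ) : ℤ) * M) ∧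
      Degrees (Nat.card (O1 σ τ) : ℤ) (Nat.card (O2 σ τ) : ℤ) M D D₂ D₃ ∧
      ∃ (χ : IrrCharacter G) (d : ℕ) (δ : ℤ), (δ = 1 ∨ δ = -1) ∧ (χ : G → ℂ) 1 = d ∧
        D₂ = δ * d ∧ (χ : G → ℂ) σ = δ ∧ ∀ g : G, (χ : G → ℂ) g = (χ : G → ℂ) 1 → g = 1 := by
  classical
  haveI := Fintype.ofFinite G
  obtain ⟨M0, hM⟩ := BC86.exists_isPModular Nat.prime_two
  have hζ : IsPrimitiveRoot Complex.I (2 ^ (3 - 1)) := by
    simpa using Complex.isPrimitiveRoot_I
  obtain ⟨u, hu⟩ := c.S.exists_vec hζ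
  obtain ⟨a, x, y, b, δ, δx, δy, H⟩ := c.S.exists_shape hM hζ hu
  obtain ⟨hs1, hs2, hs3⟩ := H.sign
  have hne1 : ∀ z : IrrCharacter G, z ≠ BlocksDefect.oneIrr G → (z : G → ℂ) ≠ fun _ => 1 :=
    fun z hz h => hz (Subtype.ext h)
  -- values
  have hσ2 : σ ^ 2 = σ * σ := pow_two σ
  have va : ∀ l, 0 < l → l < 4 → (a : G → ℂ) (σ ^ l) = δ := fun l h0 hl =>
    c.S.value_a hζ hu H h0 (by norm_num; omega)
  have vx : ∀ l, 0 < l → l < 4 → (x : G → ℂ) (σ ^ l) = (δx : ℂ) * (-1) ^ (l + 1) := fun l h0 hl =>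
    c.S.value_cd hζ hu (fun j hj0 hj => (H.uc.1 j hj0 hj).1) H.uc.2.1 h0 (by norm_num; omega)
  have vy : ∀ l, 0 < l → l < 4 → (y : G → ℂ) (σ ^ l) = (δy : ℂ) * (-1) ^ (l + 1) := fun l h0 hl =>
    c.S.value_cd hζ hu (fun j hj0 hj => (H.uc.1 j hj0 hj).2) H.uc.2.2 h0 (by norm_num; omega)
  -- degrees
  obtain ⟨da, hda0, hda⟩ := CharCore.IsIrrCharacter.exists_degree a.2
  obtain ⟨dx, hdx0, hdx⟩ := CharCore.IsIrrCharacter.exists_degree x.2
  obtain ⟨dy, hdy0, hdy⟩ := CharCore.IsIrrCharacter.exists_degree y.2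
  set D : ℤ := δ * da with hD
  set D₂ : ℤ := δx * dx with hD₂
  set D₃ : ℤ := δy * dy with hD₃
  have hsum : 1 + D + D₂ + D₃ = 0 := by
    have h := (c.S.relation hM hζ hu H (ρ := 1) (by simp)).1
    rw [hda, hdx, hdy] at h
    have h' : ((1 + D + D₂ + D₃ : ℤ) : ℂ) = 0 := by
      rw [hD, hD₂, hD₃]; push_cast; linear_combination h
    exact_mod_cast h'
  -- congruences
  have hdiv : ∀ (z : IrrCharacter G) (dz : ℕ), (z : G → ℂ) 1 = dz → ∀ e f : ℤ,
      (z : G → ℂ) σ = e → (z : G → ℂ) (σ ^ 2) = f → (z : G → ℂ) (σ ^ 3) = e →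
      (4 : ℤ) ∣ dz + 2 * e + f := by
    intro z dz hz e f he hf he3
    obtain ⟨q, hq⟩ := four_dvd_sum (g := σ) (by rw [← c.ordσ]; exact pow_orderOf_eq_one σ) z
    rw [hz, he, hf, he3] at hq
    refine ⟨q, ?_⟩
    have h' : (((dz : ℤ) + 2 * e + f : ℤ) : ℂ) = ((4 * (q : ℤ) : ℤ) : ℂ) := by
      push_cast; linear_combination hq
    exact_mod_cast h'
  have ha4 := hdiv a da hda δ δ (by simpa using va 1 one_pos (by norm_num))
    (va 2 two_pos (by norm_num)) (va 3 (by norm_num) (by norm_num))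
  have hx4 := hdiv x dx hdx δx (-δx) (by simpa using vx 1 one_pos (by norm_num))
    (by rw [vx 2 two_pos (by norm_num)]; push_cast; ring)
    (by rw [vx 3 (by norm_num) (by norm_num)]; norm_num)
  have hy4 := hdiv y dy hdy δy (-δy) (by simpa using vy 1 one_pos (by norm_num))
    (by rw [vy 2 two_pos (by norm_num)]; push_cast; ring)
    (by rw [vy 3 (by norm_num) (by norm_num)]; norm_num)
  -- the order
  set k1 := Nat.card (O1 σ τ) with hk1
  set k2 := Nat.card (O2 σ τ) with hk2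
  have hk1o : Odd k1 := c.odd_O1
  have hk2o : Odd k2 := by
    have := c.symm.odd_O1
    rwa [c.O1_symm] at this
  set m := (Subgroup.centralizer ({σ * σ} : Set G)).index with hm
  have hG : Nat.card G = 8 * (k1 * k2) * m := by
    rw [hm, ← c.card_cent_t, mul_comm, Subgroup.index_mul_card]
  have hmodd : Odd m := by
    have hle : (P : Subgroup G) ≤ Subgroup.centralizer ({σ * σ} : Set G) := fun p hp =>
      Subgroup.mem_centralizer_singleton_iff.mpr (by rw [← c.J_eq]; exact c.S.J_comm hp)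
    haveI : Fact (Nat.Prime 2) := ⟨Nat.prime_two⟩
    rw [← Nat.not_even_iff_odd, even_iff_two_dvd]
    exact fun h => P.not_dvd_index (h.trans (Subgroup.index_dvd_of_le hle))
  have hm0 : m ≠ 0 := by rintro h; rw [h] at hmodd; simp at hmodd
  obtain ⟨hDne, hord⟩ := c.S.order_formula hM (by rw [c.J_eq]; exact c.conj τ c.S.inv)
    (by rw [c.J_eq]; exact c.conj _ c.ord_στ) a ((H.mem a).mpr (Or.inr (Or.inl rfl)))
    (hne1 a H.ne_one.1) δ hs1 (fun l h0 hl => va l h0 (by norm_num at hl; omega))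
  rw [c.J_eq, c.card_cent_t, c.card_cent_tτ, c.symm.card_cent_tτ, c.O1_symm, ← hk1, ← hk2, hG]
    at hord
  have hdeg : charDegree (a : G → ℂ) = da := by
    have := BlocksCore.irr_one_eq a
    rw [hda] at this
    exact_mod_cast this.symm
  rw [hdeg] at hord hDne
  -- the vanishing outside the block
  have hzero : ∀ χ : IrrCharacter G, χ ≠ BlocksDefect.oneIrr G → χ ≠ a → χ ≠ x → χ ≠ y →
      (χ : G → ℂ) σ = 0 := by
    intro χ n0 n1 n2 n3
    have hall := InvChar68.sum_mul_conj_self σ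
    rw [c.card_cent_σ] at hall
    have hn : ∀ z : IrrCharacter G, (z : G → ℂ) σ * conj ((z : G → ℂ) σ) =
        ((Complex.normSq ((z : G → ℂ) σ) : ℝ) : ℂ) := fun z => Complex.mul_conj _
    simp only [hn] at hall
    have hall' : ∑ z : IrrCharacter G, Complex.normSq ((z : G → ℂ) σ) = 4 := by exact_mod_cast hall
    have hfour : ∑ z ∈ ({BlocksDefect.oneIrr G, a, x, y} : Finset (IrrCharacter G)),
        Complex.normSq ((z : G → ℂ) σ) = 4 := by
      rw [Finset.sum_insert (by simp [H.ne_one.1.symm, H.ne_one.2.1.symm, H.ne_one.2.2.1.symm]),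
        Finset.sum_insert (by simp [H.ne.1, H.ne.2.1]), Finset.sum_pair H.ne.2.2.1,
        BlocksDefect.coe_oneIrr, ← pow_one σ, va 1 one_pos (by norm_num),
        vx 1 one_pos (by norm_num), vy 1 one_pos (by norm_num)]
      rcases hs1 with rfl | rfl <;> rcases hs2 with rfl | rfl <;> rcases hs3 with rfl | rfl <;>
        norm_num
    have h0 := Finset.sum_sdiff (s₁ := ({BlocksDefect.oneIrr G, a, x, y} : Finset (IrrCharacter G)))
      (s₂ := Finset.univ) (f := fun z : IrrCharacter G => Complex.normSq ((z : G → ℂ) σ))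
      (Finset.subset_univ _)
    rw [hall', hfour] at h0
    have h1 := (Finset.sum_eq_zero_iff_of_nonneg fun z _ => Complex.normSq_nonneg _).mp
      (show (∑ z ∈ Finset.univ \ ({BlocksDefect.oneIrr G, a, x, y} : Finset (IrrCharacter G)),
        Complex.normSq ((z : G → ℂ) σ)) = 0 by linarith) χ (by simp [n0, n1, n2, n3])
    exact Complex.normSq_eq_zero.mp h1
  -- the pairs
  have hpairs := InvChar68.card_pairs_mul_card (σ * σ) σ
  rw [c.card_pairs, InvChar68.card_isConj_eq, ← hm] at hpairs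
  have hfour : ∑ χ : IrrCharacter G, (χ : G → ℂ) (σ * σ) ^ 2 * conj ((χ : G → ℂ) σ) /
      (χ : G → ℂ) 1 = 1 + (δ : ℂ) / da + (δx : ℂ) / dx + (δy : ℂ) / dy := by
    rw [← Finset.sum_subset (Finset.subset_univ
      ({BlocksDefect.oneIrr G, a, x, y} : Finset (IrrCharacter G))) ?_]
    · rw [Finset.sum_insert (by simp [H.ne_one.1.symm, H.ne_one.2.1.symm, H.ne_one.2.2.1.symm]),
        Finset.sum_insert (by simp [H.ne.1, H.ne.2.1]), Finset.sum_pair H.ne.2.2.1,
        BlocksDefect.coe_oneIrr, hda, hdx, hdy, ← hσ2, va 2 two_pos (by norm_num),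
        vx 2 two_pos (by norm_num), vy 2 two_pos (by norm_num)]
      rw [show (a : G → ℂ) σ = _ by simpa using va 1 one_pos (by norm_num),
        show (x : G → ℂ) σ = _ by simpa using vx 1 one_pos (by norm_num),
        show (y : G → ℂ) σ = _ by simpa using vy 1 one_pos (by norm_num)]
      rcases hs1 with rfl | rfl <;> rcases hs2 with rfl | rfl <;> rcases hs3 with rfl | rfl <;>
        simp <;> ring
    · intro χ _ hχ
      simp only [Finset.mem_insert, Finset.mem_singleton, not_or] at hχ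
      rw [hzero χ hχ.1 hχ.2.1 hχ.2.2.1 hχ.2.2.2]; simp
  rw [hfour, hG] at hpairs
  refine ⟨m, D, D₂, D₃, by rw [hG]; push_cast; ring, ?_, x, dx, δx, hs2, hdx, hD₂,
    by simpa using vx 1 one_pos (by norm_num),
    faithful x (hne1 x H.ne_one.2.1) (g := σ) hs2 (by simpa using vx 1 one_pos (by norm_num))⟩
  refine
    { k₁pos := by exact_mod_cast hk1o.pos
      k₂pos := by exact_mod_cast hk2o.pos
      k₁odd := by exact_mod_cast hk1o
      k₂odd := by exact_mod_cast hk2o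
      Modd := by exact_mod_cast hmodd
      Dmod := ?_
      Dne := ?_
      D₂odd := ?_
      D₃odd := ?_
      order := ?_
      sum := hsum
      pairs := ?_ }
  · rcases hs1 with rfl | rfl <;> omega
  · rcases hs1 with rfl | rfl <;> omega
  · rw [Int.odd_iff]; rcases hs2 with rfl | rfl <;> omega
  · rw [Int.odd_iff]; rcases hs3 with rfl | rfl <;> omega
  · have hk1' : (k1 : ℚ) ≠ 0 := Nat.cast_ne_zero.mpr hk1o.pos.ne'
    have hk2' : (k2 : ℚ) ≠ 0 := Nat.cast_ne_zero.mpr hk2o.pos.ne'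
    have h : ((8 * ((k1 : ℤ) * k2 * m) * (D - 1) ^ 2 : ℤ) : ℚ) =
        ((64 * D * (D + 1) * ((k1 : ℤ) * k2) * ((k1 : ℤ) + k2) ^ 2 : ℤ) : ℚ) := by
      have key : (1 / (4 * (k1 : ℚ)) + 1 / (4 * (k2 : ℚ))) ^ 2 * (4 * k1 * k2) ^ 2 =
          ((k1 : ℚ) + k2) ^ 2 := by
        field_simp
        ring
      rw [hD]
      push_cast at hord ⊢
      rcases hs1 with rfl | rfl
      · push_cast at hord ⊢
        linear_combination hord + (64 * (da : ℚ) * (da + 1) * k1 * k2) * key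
      · push_cast at hord ⊢
        linear_combination hord + (64 * (da : ℚ) * (da - 1) * k1 * k2) * key
    exact_mod_cast h
  · have hda' : (da : ℂ) ≠ 0 := Nat.cast_ne_zero.mpr hda0.ne'
    have hdx' : (dx : ℂ) ≠ 0 := Nat.cast_ne_zero.mpr hdx0.ne'
    have hdy' : (dy : ℂ) ≠ 0 := Nat.cast_ne_zero.mpr hdy0.ne'
    have hm' : (m : ℂ) ≠ 0 := Nat.cast_ne_zero.mpr hm0
    have hp : (m : ℂ) * (1 + (δ : ℂ) / da + (δx : ℂ) / dx + (δy : ℂ) / dy) =
        32 * ((k1 : ℂ) * k2) := by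
      refine mul_left_cancel₀ hm' ?_
      push_cast at hpairs
      linear_combination -hpairs
    have h : ((8 * ((k1 : ℤ) * k2 * m) * (D * D₂ * D₃ + D₂ * D₃ + D * D₃ + D * D₂) : ℤ) : ℂ) =
        ((256 * ((k1 : ℤ) * k2) ^ 2 * (D * D₂ * D₃) : ℤ) : ℂ) := by
      rw [hD, hD₂, hD₃]
      field_simp at hp
      push_cast
      rcases hs1 with rfl | rfl <;> rcases hs2 with rfl | rfl <;> rcases hs3 with rfl | rfl <;>
      · push_cast at hp ⊢
        first
          | linear_combination (8 * (k1 : ℂ) * k2) * hp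
          | linear_combination (-8 * (k1 : ℂ) * k2) * hp
    exact_mod_cast h

end Cfg

end Cfsg.Agent.SmallCent88
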