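import Cfsg.Agent.ZStar.DihedralBlock.OrderFormula
import Cfsg.Agent.SmallCent88.OddAct
import Mathlib.GroupTheory.FixedPointFree

/-!
# A dihedral Sylow 2-subgroup of order eight with a self-centralizing element of order four
-/

set_option autoImplicit false
set_option linter.style.haveILetI false

namespace Cfsg.Agent.SmallCent88

variable {G : Type*} [Group G]

/-- The subgroup generated by the elements of odd order commuting with `i`. -/
def oddCent (i : G) : Subgroup G := Subgroup.closure {g | g * i = i * g ∧ Odd (orderOf g)}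

/-- The configuration. -/
structure Cfg (P : Sylow 2 G) (σ τ : G) : Prop where
  S : ZStar.Dih.Setup P 3 σ τ
  cent : ∀ g, g * σ = σ * g → g ∈ Subgroup.zpowers σ
  conj : ∀ i : G, orderOf i = 2 → IsConj (σ * σ) i

variable {P : Sylow 2 G} {σ τ : G}

theorem commute_conj {g i c : G} (h : g * i = i * g) :
    c * g * c⁻¹ * (c * i * c⁻¹) = c * i * c⁻¹ * (c * g * c⁻¹) := by
  rw [show c * g * c⁻¹ * (c * i * c⁻¹) = c * (g * i) * c⁻¹ by group, h]; group

theorem orderOf_conj' (c g : G) : orderOf (c * g * c⁻¹) = orderOf g :=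
  (MulAut.conj c).orderOf_eq g

theorem conj_mem_oddCent {c i x : G} (hx : x ∈ oddCent i) : c * x * c⁻¹ ∈ oddCent (c * i * c⁻¹) := by
  have h : (oddCent i).map (MulAut.conj c).toMonoidHom ≤ oddCent (c * i * c⁻¹) := by
    rw [oddCent, MonoidHom.map_closure, Subgroup.closure_le]
    rintro _ ⟨g, ⟨hg, ho⟩, rfl⟩
    refine Subgroup.subset_closure ⟨commute_conj hg, ?_⟩
    show Odd (orderOf (c * g * c⁻¹))
    rwa [orderOf_conj']
  exact h ⟨x, hx, rfl⟩

namespace Cfg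

variable (c : Cfg P σ τ)
include c

theorem ordσ : orderOf σ = 4 := by simpa using c.S.ord

theorem J_eq : ZStar.Dih.J 3 σ = σ * σ := by simp [ZStar.Dih.J, pow_two]

theorem ord_t : orderOf (σ * σ) = 2 := by rw [← c.J_eq]; exact c.S.orderOf_J

theorem tt : σ * σ * (σ * σ) = 1 := by
  rw [← pow_two, ← c.ord_t]; exact pow_orderOf_eq_one _

theorem t_ne : σ * σ ≠ 1 := fun h => by
  have := c.ord_t; rw [h, orderOf_one] at this; omega

theorem σ_inv : σ⁻¹ = σ * σ * σ :=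
  inv_eq_of_mul_eq_one_right (by rw [← c.tt]; group)

theorem ττ : τ * τ = 1 := c.S.tau_sq

theorem τστ : τ * σ * τ = σ⁻¹ := by
  have := c.S.rel; rwa [inv_eq_of_mul_eq_one_right c.ττ] at this

theorem τ_comm : τ * (σ * σ) = σ * σ * τ := by
  have h2 : σ⁻¹ * σ⁻¹ = σ * σ := by
    rw [← mul_inv_rev]; exact inv_eq_of_mul_eq_one_right c.tt
  calc τ * (σ * σ) = τ * σ * (τ * τ) * σ * (τ * τ) := by rw [c.ττ]; group
    _ = τ * σ * τ * (τ * σ * τ) * τ := by group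
    _ = σ * σ * τ := by rw [c.τστ, h2]

theorem στστ : σ * τ * (σ * τ) = 1 := by
  rw [show σ * τ * (σ * τ) = σ * (τ * σ * τ) by group, c.τστ, mul_inv_cancel]

theorem ord_στ : orderOf (σ * τ) = 2 := by
  refine orderOf_eq_prime (by rw [pow_two, c.στστ]) fun h => c.S.tau_notMem ?_
  rw [show τ = σ⁻¹ by rw [← mul_right_inj σ, h, mul_inv_cancel]]
  exact inv_mem (Subgroup.mem_zpowers σ)

theorem στ_comm : σ * τ * (σ * σ) = σ * σ * (σ * τ) := by
  rw [mul_assoc, c.τ_comm]; group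

theorem symm : Cfg P σ (σ * τ) where
  S :=
    { hn := le_rfl
      hσ := c.S.hσ
      hτ := mul_mem c.S.hσ c.S.hτ
      ord := c.S.ord
      inv := c.ord_στ
      rel := by
        rw [show σ * τ * σ * (σ * τ)⁻¹ = σ * (τ * σ * τ⁻¹) * σ⁻¹ by group, c.S.rel]; group
      gen := by
        refine le_antisymm ((Subgroup.closure_le _).mpr ?_) ?_
        · rintro x (rfl | rfl)
          · exact c.S.hσ
          · exact mul_mem c.S.hσ c.S.hτ
        · rw [← c.S.gen, Subgroup.closure_le]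
          intro x hx
          rcases hx with hx | hx <;> rw [hx]
          · exact Subgroup.subset_closure (Or.inl rfl)
          · have hh := mul_mem (inv_mem (Subgroup.subset_closure (k := {σ, σ * τ}) (Or.inl rfl)))
              (Subgroup.subset_closure (k := {σ, σ * τ}) (Or.inr rfl))
            rwa [inv_mul_cancel_left] at hh }
  cent := c.cent
  conj := c.conj

/-- The eight elements of `P`. -/
theorem mem_cases {p : G} (hp : p ∈ (P : Subgroup G)) :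
    p = 1 ∨ p = σ ∨ p = σ * σ ∨ p = σ⁻¹ ∨ p = τ ∨ p = σ * τ ∨ p = σ * σ * τ ∨ p = σ⁻¹ * τ := by
  have hz : ∀ a : ℤ, σ ^ a = 1 ∨ σ ^ a = σ ∨ σ ^ a = σ * σ ∨ σ ^ a = σ⁻¹ := by
    intro a
    rw [← zpow_mod_orderOf, c.ordσ]
    have : a % 4 = 0 ∨ a % 4 = 1 ∨ a % 4 = 2 ∨ a % 4 = 3 := by omega
    rcases this with h | h | h | h <;> simp only [Nat.cast_ofNat, h]
    · exact Or.inl (zpow_zero σ)
    · exact Or.inr (Or.inl (zpow_one σ))
    · exact Or.inr (Or.inr (Or.inl (zpow_two σ)))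
    · refine Or.inr (Or.inr (Or.inr ?_))
      rw [show (3 : ℤ) = 2 + 1 by norm_num, zpow_add, zpow_two, zpow_one, c.σ_inv]
  rcases c.S.mem_cases hp with ⟨a, rfl⟩ | ⟨a, rfl⟩
  · rcases hz a with h | h | h | h <;> simp [h]
  · rcases hz a with h | h | h | h <;> simp [h]

section Finite

variable [Finite G]

theorem oddCent_t_core :
    ∃ K : Subgroup G, ZStar.Dih.Core P 3 σ K ∧ oddCent (σ * σ) = K := by
  haveI := Fintype.ofFinite G
  obtain ⟨K, C⟩ := c.S.exists_core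
  refine ⟨K, C, le_antisymm ((Subgroup.closure_le _).mpr ?_) fun k hk => Subgroup.subset_closure
    ⟨by rw [← c.J_eq]; exact Subgroup.mem_centralizer_singleton_iff.mp (C.le hk), C.odd k hk⟩⟩
  rintro g ⟨hg, ho⟩
  exact C.reg g (Subgroup.mem_centralizer_singleton_iff.mpr (by rw [c.J_eq]; exact hg)) ho

theorem mem_O {x : G} : x ∈ oddCent (σ * σ) ↔ x * (σ * σ) = σ * σ * x ∧ Odd (orderOf x) := by
  obtain ⟨K, C, hK⟩ := c.oddCent_t_core
  refine ⟨fun h => ?_, fun h => Subgroup.subset_closure h⟩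
  rw [hK] at h
  exact ⟨by rw [← c.J_eq]; exact Subgroup.mem_centralizer_singleton_iff.mp (C.le h), C.odd x h⟩

theorem mem_oddCent {i x : G} (hi : orderOf i = 2) :
    x ∈ oddCent i ↔ x * i = i * x ∧ Odd (orderOf x) := by
  obtain ⟨g, hg⟩ := isConj_iff.mp (c.conj i hi)
  refine ⟨fun h => ?_, fun h => Subgroup.subset_closure h⟩
  have h1 := conj_mem_oddCent (c := g⁻¹) h
  rw [show g⁻¹ * i * g⁻¹⁻¹ = σ * σ by rw [← hg]; group, c.mem_O] at h1
  have h2 := commute_conj (c := g) h1.1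
  rw [hg, show g * (g⁻¹ * x * g⁻¹⁻¹) * g⁻¹ = x by group] at h2
  exact ⟨h2, by rw [← orderOf_conj' g⁻¹]; exact h1.2⟩

theorem σ_inverts {x : G} (hx : x ∈ oddCent (σ * σ)) : σ * x * σ⁻¹ = x⁻¹ ∧
    ∀ y ∈ oddCent (σ * σ), x * y = y * x := by
  set O := oddCent (σ * σ) with hO
  have hmem : ∀ y : O, σ * (y : G) * σ⁻¹ ∈ O := fun y => by
    have := conj_mem_oddCent (c := σ) y.2
    rwa [show σ * (σ * σ) * σ⁻¹ = σ * σ by group, ← hO] at this
  let φ : O →* O :=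
    { toFun := fun y => ⟨σ * (y : G) * σ⁻¹, hmem y⟩
      map_one' := Subtype.ext (by simp)
      map_mul' := fun a b => Subtype.ext (by simp [mul_assoc]) }
  have h2 : Function.Involutive φ := fun y => Subtype.ext (by
    show σ * (σ * (y : G) * σ⁻¹) * σ⁻¹ = y
    rw [show σ * (σ * (y : G) * σ⁻¹) * σ⁻¹ = σ * σ * y * (σ * σ)⁻¹ by group,
      ← (c.mem_O.mp y.2).1, mul_inv_cancel_right])
  have hfp : MonoidHom.FixedPointFree φ := by
    intro y hy
    have hy' : σ * (y : G) * σ⁻¹ = y := congrArg Subtype.val hy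
    obtain ⟨hyt, hyo⟩ := c.mem_O.mp y.2
    obtain ⟨i, hi⟩ := Subgroup.mem_zpowers_iff.mp (c.cent y (mul_inv_eq_iff_eq_mul.mp hy').symm)
    apply Subtype.ext
    have h4 : (y : G) ^ 4 = 1 := by
      rw [← hi, ← zpow_natCast, ← zpow_mul, mul_comm, zpow_mul, zpow_natCast, ← c.ordσ,
        pow_orderOf_eq_one, one_zpow]
    have : orderOf (y : G) ∣ 1 := by
      have h5 := Nat.dvd_gcd (dvd_refl (orderOf (y : G))) (orderOf_dvd_of_pow_eq_one h4)
      rwa [show (4 : ℕ) = 2 ^ 2 by norm_num,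
        Nat.Coprime.gcd_eq_one (hyo.coprime_two_right.pow_right 2)] at h5
    exact orderOf_eq_one_iff.mp (Nat.dvd_one.mp this)
  refine ⟨congrArg Subtype.val (congrFun (hfp.coe_eq_inv_of_involutive h2) ⟨x, hx⟩), fun y hy => ?_⟩
  exact congrArg Subtype.val (hfp.commute_all_of_involutive h2 ⟨x, hx⟩ ⟨y, hy⟩).eq

theorem oddCent_comm {i x y : G} (hi : orderOf i = 2) (hx : x ∈ oddCent i) (hy : y ∈ oddCent i) :
    x * y = y * x := by
  obtain ⟨g, hg⟩ := isConj_iff.mp (c.conj i hi)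
  have e : g⁻¹ * i * g⁻¹⁻¹ = σ * σ := by rw [← hg]; group
  have h1 := conj_mem_oddCent (c := g⁻¹) hx
  have h2 := conj_mem_oddCent (c := g⁻¹) hy
  rw [e] at h1 h2
  have h3 := commute_conj (c := g) ((c.σ_inverts h1).2 _ h2)
  simpa [mul_assoc] using h3

theorem cent_t {g : G} (hg : g * (σ * σ) = σ * σ * g) :
    ∃ p ∈ (P : Subgroup G), ∃ k ∈ oddCent (σ * σ), g = p * k := by
  obtain ⟨K, C, hK⟩ := c.oddCent_t_core
  rw [hK]
  exact C.decomp g (Subgroup.mem_centralizer_singleton_iff.mpr (by rw [c.J_eq]; exact hg))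

theorem decomp_unique {p p' k k' : G} (hp : p ∈ (P : Subgroup G)) (hp' : p' ∈ (P : Subgroup G))
    (hk : k ∈ oddCent (σ * σ)) (hk' : k' ∈ oddCent (σ * σ)) (h : p * k = p' * k') :
    p = p' ∧ k = k' := by
  haveI := Fintype.ofFinite G
  obtain ⟨K, C, hK⟩ := c.oddCent_t_core
  rw [hK] at hk hk'
  exact c.S.unique_decomp C hp hp' hk hk' h

theorem P_conj_mem {p k : G} (hp : p ∈ (P : Subgroup G)) (hk : k ∈ oddCent (σ * σ)) :
    p * k * p⁻¹ ∈ oddCent (σ * σ) := by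
  have := conj_mem_oddCent (c := p) hk
  rwa [show p * (σ * σ) * p⁻¹ = σ * σ by
    rw [← c.J_eq, c.S.J_comm hp, mul_inv_cancel_right]] at this

/-- An element of order four commuting with an odd element: the latter is trivial. -/
theorem cent_four {g x : G} (hg : orderOf g = 4) (hx : x * g = g * x) :
    x ∈ Subgroup.zpowers g := by
  have hgg : orderOf (g * g) = 2 := by rw [← pow_two, orderOf_pow' _ two_ne_zero, hg]; norm_num
  obtain ⟨c0, hc0⟩ := isConj_iff.mp (c.conj _ hgg).symm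
  set g' := c0 * g * c0⁻¹ with hg'
  have hsq : g' * g' = σ * σ := by rw [← hc0, hg']; group
  obtain ⟨p, hp, k, hk, hpk⟩ := c.cent_t (g := g') (by rw [← hsq]; group)
  have e2 : p * p * ((p⁻¹ * k * p) * k) = σ * σ * 1 := by
    rw [mul_one, ← hsq, hpk]; group
  have hkp : p⁻¹ * k * p ∈ oddCent (σ * σ) := by
    simpa using c.P_conj_mem (inv_mem hp) hk
  obtain ⟨hp2, -⟩ := c.decomp_unique (mul_mem hp hp) (mul_mem c.S.hσ c.S.hσ)
    (mul_mem hkp hk) (one_mem _) e2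
  have hp' : p = σ ∨ p = σ⁻¹ := by
    have hne := c.t_ne
    rcases c.mem_cases hp with h | h | h | h | h | h | h | h
    · exact absurd (by rw [← hp2, h, one_mul]) hne
    · exact Or.inl h
    · exact absurd (by rw [← hp2, h, c.tt]) hne
    · exact Or.inr h
    · exact absurd (by rw [← hp2, h, c.ττ]) hne
    · exact absurd (by rw [← hp2, h, c.στστ]) hne
    · exact absurd (by rw [← hp2, h, show σ * σ * τ * (σ * σ * τ) = σ * σ * (τ * (σ * σ)) * τ by
        group, c.τ_comm, show σ * σ * (σ * σ * τ) * τ = σ * σ * (σ * σ) * (τ * τ) by group, c.tt,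
        c.ττ, mul_one]) hne
    · exact absurd (by rw [← hp2, h, show σ⁻¹ * τ * (σ⁻¹ * τ) = σ⁻¹ * (τ * σ * τ⁻¹)⁻¹ by
        rw [inv_eq_of_mul_eq_one_right c.ττ]; simp [mul_assoc, inv_eq_of_mul_eq_one_right c.ττ],
        c.S.rel, inv_inv, inv_mul_cancel]) hne
  have hσk : σ * k * σ⁻¹ = k⁻¹ := (c.σ_inverts hk).1
  -- move `k` away
  have hd : ∀ d ∈ oddCent (σ * σ), d * σ * d⁻¹ = σ * (d⁻¹ * d⁻¹) ∧
      d * σ⁻¹ * d⁻¹ = σ⁻¹ * (d⁻¹ * d⁻¹) := by
    intro d hd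
    have hdi : σ * d * σ⁻¹ = d⁻¹ := (c.σ_inverts hd).1
    have hdi' : σ⁻¹ * d * σ = d⁻¹ := by
      have e : σ * d⁻¹ * σ⁻¹ = d := by
        rw [show σ * d⁻¹ * σ⁻¹ = (σ * d * σ⁻¹)⁻¹ by group, hdi, inv_inv]
      calc σ⁻¹ * d * σ = σ⁻¹ * (σ * d⁻¹ * σ⁻¹) * σ := by rw [e]
        _ = d⁻¹ := by group
    constructor
    · calc d * σ * d⁻¹ = σ * (σ⁻¹ * d * σ) * d⁻¹ := by group
        _ = σ * (d⁻¹ * d⁻¹) := by rw [hdi']; group
    · calc d * σ⁻¹ * d⁻¹ = σ⁻¹ * (σ * d * σ⁻¹) * d⁻¹ := by group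
        _ = σ⁻¹ * (d⁻¹ * d⁻¹) := by rw [hdi]; group
  obtain ⟨d, hdO, hdk⟩ : ∃ d ∈ oddCent (σ * σ), d⁻¹ * d⁻¹ = k :=
    ⟨(oddSqrt k)⁻¹, inv_mem (Subgroup.pow_mem _ hk _), by
      rw [inv_inv]; exact oddSqrt_mul_self (c.mem_O.mp hk).2⟩
  have hconj : ∃ q, (q = σ ∨ q = σ⁻¹) ∧ g' = d * q * d⁻¹ := by
    rcases hp' with rfl | rfl
    · exact ⟨p, Or.inl rfl, by rw [(hd d hdO).1, hdk, hpk]⟩
    · exact ⟨_, Or.inr rfl, by rw [(hd d hdO).2, hdk, hpk]⟩
  obtain ⟨q, hq, hgq⟩ := hconj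
  have hgq' : g = c0⁻¹ * d * q * (c0⁻¹ * d)⁻¹ := by
    rw [show c0⁻¹ * d * q * (c0⁻¹ * d)⁻¹ = c0⁻¹ * (d * q * d⁻¹) * c0 by group, ← hgq, hg']
    group
  generalize c0⁻¹ * d = e at hgq'
  subst hgq'
  have hxq : e⁻¹ * x * e ∈ Subgroup.zpowers q := by
    have h1 : e⁻¹ * x * e * q = q * (e⁻¹ * x * e) := by
      calc e⁻¹ * x * e * q = e⁻¹ * (x * (e * q * e⁻¹)) * e := by group
        _ = q * (e⁻¹ * x * e) := by rw [hx]; group
    rcases hq with rfl | rfl
    · exact c.cent _ h1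
    · rw [Subgroup.zpowers_inv]
      have h1' : Commute (e⁻¹ * x * e) σ⁻¹⁻¹ := (show Commute (e⁻¹ * x * e) σ⁻¹ from h1).inv_right
      rw [inv_inv] at h1'
      exact c.cent _ h1'.eq
  obtain ⟨i, hi⟩ := Subgroup.mem_zpowers_iff.mp hxq
  exact ⟨i, show (e * q * e⁻¹) ^ i = x by rw [conj_zpow, hi]; group⟩

theorem eq_one_of_commute_four {g x : G} (hg : orderOf g = 4) (hx : x * g = g * x)
    (ho : Odd (orderOf x)) : x = 1 := by
  obtain ⟨i, hi⟩ := Subgroup.mem_zpowers_iff.mp (c.cent_four hg hx)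
  have h4 : x ^ 4 = 1 := by
    rw [← hi, ← zpow_natCast, ← zpow_mul, mul_comm, zpow_mul, zpow_natCast, ← hg,
      pow_orderOf_eq_one, one_zpow]
  have h5 := Nat.dvd_gcd (dvd_refl (orderOf x)) (orderOf_dvd_of_pow_eq_one h4)
  rw [show (4 : ℕ) = 2 ^ 2 by norm_num,
    Nat.Coprime.gcd_eq_one (ho.coprime_two_right.pow_right 2)] at h5
  exact orderOf_eq_one_iff.mp (Nat.dvd_one.mp h5)

/-- For commuting involutions `i ≠ j` some element of order four fixes `i`, sends `j` to `i * j`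
and inverts the odd centralizer of `i`. -/
theorem exists_swap {i j : G} (hi : orderOf i = 2) (hj : orderOf j = 2) (hne : j ≠ i)
    (hij : j * i = i * j) :
    ∃ s : G, s * i * s⁻¹ = i ∧ s * j * s⁻¹ = i * j ∧ s * s = i ∧
      ∀ x ∈ oddCent i, s * x * s⁻¹ = x⁻¹ := by
  haveI := Fintype.ofFinite G
  obtain ⟨g, hg⟩ := isConj_iff.mp (c.conj i hi)
  set j' := g⁻¹ * j * g with hj'
  have hgi : g⁻¹ * i * g = σ * σ := by rw [← hg]; group
  have hjt : j' * (σ * σ) = σ * σ * j' := by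
    have := commute_conj (c := g⁻¹) hij
    rwa [inv_inv, hgi] at this
  have hjne : j' ≠ σ * σ := fun h => hne (by
    rw [← hg, ← h, hj']; group)
  have hjj : j' * j' = 1 := by
    rw [hj', show g⁻¹ * j * g * (g⁻¹ * j * g) = g⁻¹ * (j * j) * g by group, ← pow_two j, ← hj,
      pow_orderOf_eq_one]; group
  obtain ⟨p, hp, k, hk, hpk⟩ := c.cent_t hjt
  obtain ⟨K, C, hK⟩ := c.oddCent_t_core
  have hkk : p⁻¹ * k * p ∈ oddCent (σ * σ) := by simpa using c.P_conj_mem (inv_mem hp) hk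
  obtain ⟨hp2, -⟩ := c.decomp_unique (mul_mem hp hp) (one_mem _) (mul_mem hkk hk) (one_mem _)
    (show p * p * (p⁻¹ * k * p * k) = 1 * 1 by rw [one_mul, ← hjj, hpk]; group)
  obtain ⟨d, hdK, hd⟩ := c.S.exists_conj_of_sq C hp hp2 (hK ▸ hk) (by rw [← hpk]; exact hjj)
  rw [← hK] at hdK
  have hrefl : σ * p * σ⁻¹ = σ * σ * p := by
    have hjne1 : j' ≠ 1 := fun h => by
      have : j = 1 := by rw [show j = g * j' * g⁻¹ by rw [hj']; group, h]; group
      rw [this, orderOf_one] at hj; omega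
    have key : ∀ q : G, q * σ = σ⁻¹ * q → σ * q * σ⁻¹ = σ * σ * q := by
      intro q hq
      calc σ * q * σ⁻¹ = σ * (σ * (σ⁻¹ * q) * σ⁻¹) := by group
        _ = σ * σ * q := by rw [← hq]; group
    have hτσ : τ * σ = σ⁻¹ * τ := by
      rw [← c.S.rel]; group
    rcases c.mem_cases hp with h | h | h | h | h | h | h | h
    · rw [h] at hd hpk
      exact absurd (by rw [hpk, ← hd]; group) hjne1
    · exact absurd (by rw [← hp2, h]) c.t_ne
    · rw [h] at hd hpk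
      refine absurd ?_ hjne
      rw [hpk, ← hd, mul_assoc, ← (c.mem_O.mp hdK).1]; group
    · refine absurd ?_ c.t_ne
      rw [h] at hp2
      rw [← inv_inv (σ * σ), mul_inv_rev, hp2, inv_one]
    · rw [h]; exact key τ hτσ
    · rw [h]; exact key _ (by rw [mul_assoc σ τ σ, hτσ]; group)
    · rw [h]; exact key _ (by rw [mul_assoc (σ * σ) τ σ, hτσ]; group)
    · rw [h]; exact key _ (by rw [mul_assoc σ⁻¹ τ σ, hτσ])
  have hjd : j' = d⁻¹ * p * d := by rw [hpk, hd]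
  have hdt := (c.mem_O.mp hdK).1
  set s := d⁻¹ * σ * d with hs
  have hss : s * s = σ * σ := by
    rw [hs, show d⁻¹ * σ * d * (d⁻¹ * σ * d) = d⁻¹ * (σ * σ * d) by group, ← hdt]; group
  have hsj : s * j' * s⁻¹ = σ * σ * j' := by
    rw [hs, hjd, show d⁻¹ * σ * d * (d⁻¹ * p * d) * (d⁻¹ * σ * d)⁻¹ = d⁻¹ * (σ * p * σ⁻¹) * d by
      group, hrefl, show d⁻¹ * (σ * σ * p) * d = (d⁻¹ * (σ * σ)) * (p * d) by group,
      show d⁻¹ * (σ * σ) = σ * σ * d⁻¹ by
        rw [eq_mul_inv_iff_mul_eq, mul_assoc, ← hdt, inv_mul_cancel_left]]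
    group
  refine ⟨g * s * g⁻¹, ?_, ?_, ?_, ?_⟩
  · rw [← hg, ← hss]; group
  · rw [show j = g * j' * g⁻¹ by rw [hj']; group, ← hg,
      show g * (σ * σ) * g⁻¹ * (g * j' * g⁻¹) = g * (σ * σ * j') * g⁻¹ by group, ← hsj]
    group
  · rw [← hg, ← hss]; group
  · intro x hx
    have h1 := conj_mem_oddCent (c := g⁻¹) hx
    rw [inv_inv, hgi] at h1
    have h2 : s * (g⁻¹ * x * g) * s⁻¹ = (g⁻¹ * x * g)⁻¹ := by
      set y := g⁻¹ * x * g
      have hdy : d * y * d⁻¹ = y := by rw [(c.σ_inverts hdK).2 y h1, mul_inv_cancel_right]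
      rw [hs, show d⁻¹ * σ * d * y * (d⁻¹ * σ * d)⁻¹ = d⁻¹ * (σ * (d * y * d⁻¹) * σ⁻¹) * d by
        group, hdy, (c.σ_inverts h1).1, mul_assoc,
        (c.σ_inverts (inv_mem h1)).2 d hdK, ← mul_assoc, inv_mul_cancel, one_mul]
    calc g * s * g⁻¹ * x * (g * s * g⁻¹)⁻¹ = g * (s * (g⁻¹ * x * g) * s⁻¹) * g⁻¹ := by group
      _ = x⁻¹ := by rw [h2]; group

theorem oddInv_oddCent {i s : G} (hi : orderOf i = 2) (hs : s * s = 1) (hsi : s * i = i * s) :
    OddInv (oddCent i) s where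
  odd x hx := ((c.mem_oddCent hi).mp hx).2
  sq := hs
  mem x hx := by
    have := conj_mem_oddCent (c := s) hx
    rwa [hsi, mul_inv_cancel_right, inv_eq_of_mul_eq_one_right hs] at this

end Finite

end Cfg

end Cfsg.Agent.SmallCent88
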