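import Cfsg.Agent.SmallCent88.Fours

/-!
# Counting pairs of involutions in the centralizer of `O1`
-/

set_option autoImplicit false
set_option linter.style.haveILetI false

namespace Cfsg.Agent.SmallCent88

open scoped Classical

variable {G : Type*} [Group G] {P : Sylow 2 G} {σ τ : G}

theorem orderOf_two_of {G : Type*} [Group G] {x : G} (h : x * x = 1) (h1 : x ≠ 1) :
    orderOf x = 2 :=
  orderOf_eq_prime (by rw [pow_two, h]) h1

namespace Cfg

variable [Finite G] (c : Cfg P σ τ)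
include c

theorem u_inv : (σ * τ)⁻¹ = σ * τ := inv_eq_of_mul_eq_one_right c.στστ

theorem u_conj_O1 {y : G} (hy : y ∈ O1 σ τ) : σ * τ * y * (σ * τ)⁻¹ = y⁻¹ := by
  obtain ⟨hyO, hyτ⟩ := c.mem_O1.mp hy
  rw [show σ * τ * y * (σ * τ)⁻¹ = σ * (τ * y * τ⁻¹) * σ⁻¹ by group,
    inv_eq_of_mul_eq_one_right c.ττ, hyτ, (c.σ_inverts hyO).1]

theorem X_mem {x : G} :
    x ∈ Subgroup.centralizer (O1 σ τ : Set G) ↔ ∀ y ∈ O1 σ τ, y * x = x * y :=
  Subgroup.mem_centralizer_iff

theorem inverts_mul_mem {a b : G} (ha : ∀ y ∈ O1 σ τ, a * y * a⁻¹ = y⁻¹)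
    (hb : ∀ y ∈ O1 σ τ, b * y * b⁻¹ = y⁻¹) :
    a * b ∈ Subgroup.centralizer (O1 σ τ : Set G) := by
  refine c.X_mem.mpr fun y hy => ?_
  have h : a * b * y * (a * b)⁻¹ = y := by
    rw [show a * b * y * (a * b)⁻¹ = a * (b * y * b⁻¹) * a⁻¹ by group, hb y hy,
      ha _ (inv_mem hy), inv_inv]
  exact (mul_inv_eq_iff_eq_mul.mp h).symm

theorem O_le_X {x : G} (hx : x ∈ oddCent (σ * σ)) :
    x ∈ Subgroup.centralizer (O1 σ τ : Set G) :=
  c.X_mem.mpr fun _ hy => (c.σ_inverts (c.O1_le hy)).2 x hx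

theorem t_mem_X : σ * σ ∈ Subgroup.centralizer (O1 σ τ : Set G) :=
  c.X_mem.mpr fun _ hy => (c.mem_O.mp (c.O1_le hy)).1

theorem τ_mem_X : τ ∈ Subgroup.centralizer (O1 σ τ : Set G) :=
  c.X_mem.mpr fun _ hy => (mem_fixIn.mp hy).2

theorem u_notMem_X (hk : O1 σ τ ≠ ⊥) : σ * τ ∉ Subgroup.centralizer (O1 σ τ : Set G) := by
  intro h
  obtain ⟨y, hy, hy1⟩ := (O1 σ τ).bot_or_exists_ne_one.resolve_left hk
  refine hy1 (c.eq_one_of_inv_eq (c.O1_le hy) ?_)
  rw [← c.u_conj_O1 hy, ← c.X_mem.mp h y hy, mul_inv_cancel_right]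

theorem u_conj_X {x : G} (hx : x ∈ Subgroup.centralizer (O1 σ τ : Set G)) :
    σ * τ * x * (σ * τ) ∈ Subgroup.centralizer (O1 σ τ : Set G) := by
  refine c.X_mem.mpr fun y hy => ?_
  have h2 : σ * τ * y * (σ * τ) = y⁻¹ := by
    have := c.u_conj_O1 hy; rwa [c.u_inv] at this
  have h := c.X_mem.mp hx _ (inv_mem hy)
  rw [← h2] at h
  have h' := congrArg (fun z => σ * τ * z * (σ * τ)) h
  simp only [mul_assoc] at h' ⊢
  have hcan : ∀ z : G, σ * (τ * (σ * (τ * z))) = z := fun z => by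
    rw [show σ * (τ * (σ * (τ * z))) = σ * τ * (σ * τ) * z by group, c.στστ, one_mul]
  simp only [hcan] at h'
  have hcan1 : σ * (τ * (σ * τ)) = 1 := by rw [← mul_assoc]; exact c.στστ
  simp only [hcan1, mul_one] at h'
  exact h'

/-- If `C(O)` has odd part `O`, then the odd elements of `C(O1)` centralizing `u` lie in `O`. -/
theorem hU_of (hU : ∀ x, (∀ y ∈ oddCent (σ * σ), y * x = x * y) → Odd (orderOf x) →
    x ∈ oddCent (σ * σ)) {x : G} (hx : x ∈ Subgroup.centralizer (O1 σ τ : Set G))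
    (hxu : x * (σ * τ) = σ * τ * x) (hxo : Odd (orderOf x)) : x ∈ oddCent (σ * σ) := by
  refine hU x (fun y hy => ?_) hxo
  obtain ⟨a, ha, b, hb, rfl⟩ := c.τ_decomp hy
  have hbu : b ∈ oddCent (σ * τ) :=
    (c.mem_oddCent c.ord_στ).mpr ⟨(mem_fixIn.mp hb).2, (c.mem_O.mp (c.O2_le hb)).2⟩
  have h2 := c.oddCent_comm c.ord_στ hbu ((c.mem_oddCent c.ord_στ).mpr ⟨hxu, hxo⟩)
  rw [mul_assoc, h2, ← mul_assoc, c.X_mem.mp hx a ha, mul_assoc]

/-- If the odd elements of `C(O1)` centralizing `u` lie in `O`: a bound for the centralizer of `u` in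
`C(O1)`, and the unique involution there. -/
theorem cent_u (hk : O1 σ τ ≠ ⊥)
    (hU : ∀ x ∈ Subgroup.centralizer (O1 σ τ : Set G), x * (σ * τ) = σ * τ * x →
      Odd (orderOf x) → x ∈ oddCent (σ * σ)) :
    (∀ p ∈ Subgroup.centralizer (O1 σ τ : Set G), p * (σ * τ) = σ * τ * p → orderOf p = 2 →
      p = σ * σ) ∧
    Nat.card (Subgroup.centralizer (O1 σ τ : Set G) ⊓ Subgroup.centralizer ({σ * τ} : Set G) :
      Subgroup G) ≤ 2 * Nat.card (O2 σ τ) := by
  obtain ⟨y₁, hy₁, hy₁1⟩ := (O1 σ τ).bot_or_exists_ne_one.resolve_left hk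
  have hodd : ∀ x ∈ Subgroup.centralizer (O1 σ τ : Set G), x * (σ * τ) = σ * τ * x →
      Odd (orderOf x) → x ∈ O2 σ τ := fun x hx hxu hxo => mem_fixIn.mpr ⟨hU x hx hxu hxo, hxu⟩
  have hkey : ∀ p ∈ Subgroup.centralizer (O1 σ τ : Set G), p * (σ * τ) = σ * τ * p →
      p * (σ * σ) = σ * σ * p → p * p = 1 → p = 1 ∨ p = σ * σ := by
    intro p hp hpu hpt hpp
    obtain ⟨q, hq, k, hk', rfl⟩ := c.cent_t hpt
    have hqy : q * y₁ = y₁ * q := by
      have h1 := c.X_mem.mp hp y₁ hy₁
      rw [mul_assoc q k y₁, (c.σ_inverts hk').2 y₁ (c.O1_le hy₁), ← mul_assoc q y₁ k,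
        ← mul_assoc y₁ q k] at h1
      exact (mul_right_cancel h1).symm
    have huq : σ * τ * q * (σ * τ)⁻¹ ∈ (P : Subgroup G) :=
      mul_mem (mul_mem (mul_mem c.S.hσ c.S.hτ) hq) (inv_mem (mul_mem c.S.hσ c.S.hτ))
    obtain ⟨e, -⟩ := c.decomp_unique huq hq (c.P_conj_mem (mul_mem c.S.hσ c.S.hτ) hk') hk'
      (show σ * τ * q * (σ * τ)⁻¹ * (σ * τ * k * (σ * τ)⁻¹) = q * k by
        rw [show σ * τ * q * (σ * τ)⁻¹ * (σ * τ * k * (σ * τ)⁻¹) = σ * τ * (q * k) * (σ * τ)⁻¹ by
          group, ← hpu, mul_inv_cancel_right])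
    have hq2 : q = 1 ∨ q = σ * σ := by
      have hne : σ * τ * τ ≠ τ * (σ * τ) := fun h => c.t_ne (by
        rw [mul_assoc, c.ττ, mul_one, ← mul_assoc, c.τστ, c.σ_inv] at h
        exact (mul_eq_right.mp h.symm))
      rcases c.P_cent_O1 hq hy₁ hy₁1 hqy with h | h | h | h
      · exact Or.inl h
      · exact Or.inr h
      · subst h; exact absurd (mul_inv_eq_iff_eq_mul.mp e) hne
      · subst h
        refine absurd ?_ hne
        have h' := mul_inv_eq_iff_eq_mul.mp e
        rw [← mul_assoc (σ * τ) (σ * σ) τ, c.στ_comm, mul_assoc (σ * σ) (σ * τ) τ,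
          mul_assoc (σ * σ) τ (σ * τ)] at h'
        exact mul_left_cancel h'
    have hkk : k * k = 1 := by
      rcases hq2 with rfl | rfl
      · simpa using hpp
      · rw [show σ * σ * k * (σ * σ * k) = σ * σ * (k * (σ * σ)) * k by group, (c.mem_O.mp hk').1,
          ← mul_assoc (σ * σ), c.tt, one_mul] at hpp
        exact hpp
    have hk1 : k = 1 := c.eq_one_of_inv_eq hk' (inv_eq_of_mul_eq_one_right hkk)
    rcases hq2 with rfl | rfl <;> simp [hk1]
  have hinv : ∀ p ∈ Subgroup.centralizer (O1 σ τ : Set G), p * (σ * τ) = σ * τ * p →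
      orderOf p = 2 → p = σ * σ := by
    intro p hp hpu hpo
    have hpp : p * p = 1 := Involution.mul_self_of_orderOf hpo
    have hp1 : p ≠ 1 := Involution.ne_one_of_orderOf hpo
    have hgX : p * (σ * σ) ∈ Subgroup.centralizer (O1 σ τ : Set G) := mul_mem hp c.t_mem_X
    have hgu : Commute (p * (σ * σ)) (σ * τ) :=
      (show Commute p (σ * τ) from hpu).mul_left (show Commute (σ * σ) (σ * τ) from c.στ_comm.symm)
    rcases Nat.even_or_odd (orderOf (p * (σ * σ))) with he | ho
    · set z := (p * (σ * σ)) ^ (orderOf (p * (σ * σ)) / 2) with hz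
      have hpos : orderOf (p * (σ * σ)) ≠ 0 := (orderOf_pos _).ne'
      have hzo : orderOf z = 2 := Involution.orderOf_pow_half he hpos
      have hzt := Involution.commute_pow_half_right hpp c.tt he
      have hzp := Involution.commute_pow_half_left hpp c.tt he
      rw [← hz] at hzt hzp
      rcases hkey z (Subgroup.pow_mem _ hgX _) (hgu.pow_left _).eq (by
          first | exact hzt.eq | exact hzt.symm.eq | exact hzt | exact hzt.symm)
          (Involution.mul_self_of_orderOf hzo) with h | h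
      · exact absurd h (Involution.ne_one_of_orderOf hzo)
      · have hpt : p * (σ * σ) = σ * σ * p := by
          rw [h] at hzp
          first | exact hzp.eq | exact hzp.symm.eq | exact hzp | exact hzp.symm
        exact (hkey p hp hpu hpt hpp).resolve_left hp1
    · obtain ⟨d, hd, hconj⟩ : ∃ d ∈ Subgroup.zpowers (p * (σ * σ)),
          d * p * d⁻¹ = σ * σ ∨ d * (σ * σ) * d⁻¹ = p := by
        obtain ⟨d, hd⟩ := ho
        refine ⟨(p * (σ * σ)) ^ (d + 1), Subgroup.pow_mem _ (Subgroup.mem_zpowers _) _, Or.inr ?_⟩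
        have hi : σ * σ * (p * (σ * σ)) * (σ * σ) = (p * (σ * σ))⁻¹ := by
          rw [mul_inv_rev, inv_eq_of_mul_eq_one_right hpp, inv_eq_of_mul_eq_one_right c.tt,
            show σ * σ * (p * (σ * σ)) * (σ * σ) = σ * σ * p * (σ * σ * (σ * σ)) by group, c.tt,
            mul_one]
        have hi' := conj_invol_pow c.tt (p * (σ * σ)) (d + 1)
        rw [hi, inv_pow] at hi'
        rw [← hi', show (p * (σ * σ)) ^ (d + 1) * (σ * σ) *
          (σ * σ * (p * (σ * σ)) ^ (d + 1) * (σ * σ)) = (p * (σ * σ)) ^ (d + 1) *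
          (σ * σ * (σ * σ)) * (p * (σ * σ)) ^ (d + 1) * (σ * σ) by group, c.tt, mul_one, ← pow_add,
          show d + 1 + (d + 1) = orderOf (p * (σ * σ)) + 1 by omega, pow_succ, pow_orderOf_eq_one,
          one_mul, mul_assoc p, c.tt, mul_one]
      have hdu : d * (σ * τ) = σ * τ * d := by
        obtain ⟨i, rfl⟩ := Subgroup.mem_zpowers_iff.mp hd
        exact (hgu.zpow_left i).eq
      have hdo : Odd (orderOf d) := by
        have := orderOf_dvd_of_mem_zpowers hd
        exact ho.of_dvd_nat this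
      have hdt := (c.mem_O.mp (c.O2_le (hodd d (Subgroup.zpowers_le.mpr hgX hd) hdu hdo))).1
      rcases hconj with h | h
      · calc p = d⁻¹ * (σ * σ) * d := by rw [← h]; group
          _ = σ * σ := by rw [mul_assoc, ← hdt]; group
      · rw [← h, hdt, mul_inv_cancel_right]
  refine ⟨hinv, ?_⟩
  let f : O2 σ τ × Bool → G := fun q => (q.1 : G) * (if q.2 then σ * σ else 1)
  have hsub : ∀ x : (Subgroup.centralizer (O1 σ τ : Set G) ⊓
      Subgroup.centralizer ({σ * τ} : Set G) : Subgroup G), ∃ q, f q = x := by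
    rintro ⟨x, hxX, hxu⟩
    have hxu : x * (σ * τ) = σ * τ * x := Subgroup.mem_centralizer_singleton_iff.mp hxu
    obtain ⟨a, m, hm, hxm⟩ :=
      Nat.exists_eq_pow_mul_and_not_dvd (orderOf_pos x).ne' 2 (by norm_num)
    have hmodd : Odd m := Nat.odd_iff.mpr (Nat.two_dvd_ne_zero.mp hm)
    by_cases h4 : 4 ∣ orderOf x
    · exfalso
      set g := x ^ (orderOf x / 4)
      have hg : orderOf g = 4 := by
        rw [orderOf_pow x, Nat.gcd_eq_right (Nat.div_dvd_of_dvd h4),
          Nat.div_div_self h4 (orderOf_pos x).ne']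
      refine hy₁1 (c.eq_one_of_commute_four hg ?_ (c.mem_O.mp (c.O1_le hy₁)).2)
      exact ((show Commute y₁ x from c.X_mem.mp hxX y₁ hy₁).pow_right _).eq
    have ha : a ≤ 1 := by
      by_contra hlt
      exact h4 (hxm ▸ Dvd.dvd.mul_right ((Nat.pow_dvd_pow 2 (show 2 ≤ a by omega))) m)
    interval_cases a
    · refine ⟨(⟨x, hodd x hxX hxu (by rw [hxm, pow_zero, one_mul]; exact hmodd)⟩, false), ?_⟩
      simp [f]
    · have hxe : orderOf (x ^ m) = 2 := by
        rw [orderOf_pow x, hxm, pow_one, Nat.gcd_mul_left_left, Nat.mul_div_cancel _ (Nat.pos_of_ne_zero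
          fun h => hm (by rw [h]; exact dvd_zero 2))]
      have ht := hinv (x ^ m) (Subgroup.pow_mem _ hxX _)
        ((show Commute x (σ * τ) from hxu).pow_left m).eq hxe
      have ho : Odd (orderOf (x * (σ * σ))) := by
        refine hmodd.of_dvd_nat (orderOf_dvd_of_pow_eq_one ?_)
        obtain ⟨r, hr⟩ := hmodd
        rw [← ht, ← pow_succ', ← pow_mul]
        refine orderOf_dvd_iff_pow_eq_one.mp ?_
        rw [hxm, pow_one]
        exact Nat.mul_dvd_mul ⟨r + 1, by omega⟩ dvd_rfl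
      refine ⟨(⟨x * (σ * σ), hodd _ (mul_mem hxX c.t_mem_X)
        ((show Commute x (σ * τ) from hxu).mul_left
          (show Commute (σ * σ) (σ * τ) from c.στ_comm.symm)).eq ho⟩, true), ?_⟩
      simp only [f, if_true, mul_assoc x, c.tt, mul_one]
  choose q hq using hsub
  refine (Nat.card_le_card_of_injective q fun a b h => Subtype.ext (by rw [← hq a, ← hq b, h])).trans ?_
  rw [Nat.card_prod, Nat.card_eq_fintype_card (α := Bool), Fintype.card_bool, mul_comm]

/-- The counting: `O2` is trivial and `C(O1)` is small. -/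
theorem count (hk : O1 σ τ ≠ ⊥)
    (hU : ∀ x ∈ Subgroup.centralizer (O1 σ τ : Set G), x * (σ * τ) = σ * τ * x →
      Odd (orderOf x) → x ∈ oddCent (σ * σ)) :
    Nat.card (O2 σ τ) = 1 ∧
      Nat.card (Subgroup.centralizer (O1 σ τ : Set G)) = 12 * Nat.card (O1 σ τ) := by
  haveI := Fintype.ofFinite G
  obtain ⟨hinv, hCu⟩ := c.cent_u hk hU
  set X := Subgroup.centralizer (O1 σ τ : Set G) with hX
  set u := σ * τ with hu
  set t := σ * σ with ht
  set k₁ := Nat.card (O1 σ τ) with hk₁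
  set k₂ := Nat.card (O2 σ τ) with hk₂
  have huu : u * u = 1 := c.στστ
  have huX : u ∉ X := c.u_notMem_X hk
  have hconjX : ∀ x ∈ X, u * x * u ∈ X := fun x hx => c.u_conj_X hx
  -- finite sets
  set Xf := Finset.univ.filter fun x : G => x ∈ X with hXf
  have hXc : Xf.card = Nat.card X := by rw [Nat.card_eq_fintype_card, Fintype.card_subtype]
  set N := Finset.univ.filter fun x : G => x ∈ X ∧ orderOf x = 2 with hN
  set R := Xf.image fun x => x * u * x⁻¹ with hR
  set T := Xf.image fun x => x * t * x⁻¹ with hT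
  have hmemX : ∀ x, x ∈ Xf ↔ x ∈ X := fun x => by simp [hXf]
  have hRmem : ∀ r ∈ R, ∃ x ∈ X, x * u * x⁻¹ = r := fun r hr => by
    obtain ⟨x, hx, e⟩ := Finset.mem_image.mp hr
    exact ⟨x, (hmemX x).mp hx, e⟩
  have hRc : Nat.card X ≤ 2 * k₂ * R.card := by
    rw [← hXc]
    refine Finset.card_le_mul_card_image Xf _ fun r hr => ?_
    obtain ⟨x₀, hx₀, rfl⟩ := hRmem r hr
    refine le_trans ?_ hCu
    rw [Nat.card_eq_fintype_card, Fintype.card_subtype]
    refine Finset.card_le_card_of_injOn (fun x => x₀⁻¹ * x) ?_ (fun a _ b _ h => mul_left_cancel h)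
    intro x hx
    simp only [Finset.coe_filter, Set.mem_setOf_eq, hmemX] at hx
    simp only [Finset.coe_filter, Set.mem_setOf_eq, Finset.mem_univ, true_and]
    refine Subgroup.mem_inf.mpr ⟨X.mul_mem (X.inv_mem hx₀) hx.1, Subgroup.mem_centralizer_singleton_iff.mpr ?_⟩
    calc x₀⁻¹ * x * u = x₀⁻¹ * (x * u * x⁻¹) * x := by group
      _ = u * (x₀⁻¹ * x) := by rw [hx.2]; group
  have hTN : T ⊆ N := by
    intro z hz
    obtain ⟨x, hx, rfl⟩ := Finset.mem_image.mp hz
    rw [hmemX] at hx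
    refine Finset.mem_filter.mpr ⟨Finset.mem_univ _, mul_mem (mul_mem hx c.t_mem_X) (inv_mem hx), ?_⟩
    rw [orderOf_conj']; exact c.ord_t
  have hTc : 4 * k₁ * k₂ * T.card ≤ Nat.card X := by
    rw [← hXc]
    refine Finset.mul_card_image_le_card Xf _ fun z hz => ?_
    obtain ⟨x₀, hx₀, rfl⟩ := Finset.mem_image.mp hz
    rw [hmemX] at hx₀
    -- `x₀ * p * k` for `p` in the four group and `k` in `O`
    let g : (oddCent t × Fin 4) → G := fun q =>
      x₀ * ((![1, t, τ, t * τ] : Fin 4 → G) q.2 * (q.1 : G))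
    have hp : ∀ i : Fin 4, (![1, t, τ, t * τ] : Fin 4 → G) i ∈ (P : Subgroup G) ∧
        (![1, t, τ, t * τ] : Fin 4 → G) i ∈ X ∧
        (![1, t, τ, t * τ] : Fin 4 → G) i * t = t * (![1, t, τ, t * τ] : Fin 4 → G) i := by
      intro i
      fin_cases i
      · exact ⟨one_mem _, one_mem _, by simp⟩
      · exact ⟨mul_mem c.S.hσ c.S.hσ, c.t_mem_X, rfl⟩
      · exact ⟨c.S.hτ, c.τ_mem_X, c.τ_comm⟩
      · exact ⟨mul_mem (mul_mem c.S.hσ c.S.hσ) c.S.hτ, mul_mem c.t_mem_X c.τ_mem_X,
          by show t * τ * t = t * (t * τ); rw [mul_assoc, c.τ_comm]⟩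
    have hinj4 : Function.Injective (![1, t, τ, t * τ] : Fin 4 → G) := by
      have h1 : t ≠ 1 := c.t_ne
      have h2 : τ ≠ 1 := c.S.tau_ne
      have h3 : t ≠ τ := c.t_ne_τ
      have h4 : t * τ ≠ 1 := Involution.ne_one_of_orderOf c.ord_tτ
      have h5 : t * τ ≠ t := fun h => h2 (mul_eq_left.mp h)
      have h6 : t * τ ≠ τ := fun h => h1 (mul_eq_right.mp h)
      intro i j h
      fin_cases i <;> fin_cases j <;>
        simp [h1, h2, h3, h4, h5, h6, Ne.symm h1, Ne.symm h2, Ne.symm h3, Ne.symm h4, Ne.symm h5,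
          Ne.symm h6] at h ⊢
    have hg : Function.Injective g := by
      rintro ⟨k, i⟩ ⟨k', i'⟩ h
      obtain ⟨e1, e2⟩ := c.decomp_unique (hp i).1 (hp i').1 k.2 k'.2 (mul_left_cancel h)
      exact Prod.ext (Subtype.ext e2) (hinj4 e1)
    have hcard : 4 * k₁ * k₂ = (Finset.univ.image g).card := by
      rw [Finset.card_image_of_injective _ hg, Finset.card_univ, ← Nat.card_eq_fintype_card,
        Nat.card_prod, c.card_O, Nat.card_eq_fintype_card (α := Fin 4), Fintype.card_fin]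
      ring
    rw [hcard]
    refine Finset.card_le_card fun y hy => ?_
    obtain ⟨⟨k, i⟩, -, rfl⟩ := Finset.mem_image.mp hy
    have hkt : (k : G) * t = t * (k : G) := (c.mem_O.mp k.2).1
    refine Finset.mem_filter.mpr ⟨(hmemX _).mpr (mul_mem hx₀ (mul_mem (hp i).2.1 (c.O_le_X k.2))), ?_⟩
    have hcm := ((show Commute _ t from (hp i).2.2).mul_left (show Commute (k : G) t from hkt)).eq
    simp only [g, mul_inv_rev]
    rw [mul_assoc x₀ _ t, hcm]
    group
  -- pairs
  set W := Finset.univ.filter fun g : G => g * g ∈ N with hW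
  have hWc : W.card ≤ 2 * (k₁ * k₂) * N.card := by
    refine (Finset.card_le_mul_card_image_of_maps_to (f := fun g => g * g)
      (fun g hg => (Finset.mem_filter.mp hg).2) (2 * (k₁ * k₂)) fun n hn => ?_)
    obtain ⟨-, -, hn2⟩ := Finset.mem_filter.mp hn
    obtain ⟨d, hd⟩ := isConj_iff.mp (c.conj n hn2)
    let g : (oddCent t × Bool) → G := fun q => d * ((if q.2 then σ else σ⁻¹) * (q.1 : G)) * d⁻¹
    have hcard : (Finset.univ.image g).card ≤ 2 * (k₁ * k₂) := by
      refine Finset.card_image_le.trans (le_of_eq ?_)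
      rw [Finset.card_univ, ← Nat.card_eq_fintype_card, Nat.card_prod, c.card_O,
        Nat.card_eq_fintype_card (α := Bool), Fintype.card_bool, mul_comm]
    refine le_trans (Finset.card_le_card fun y hy => ?_) hcard
    obtain ⟨-, hy⟩ := Finset.mem_filter.mp hy
    have hsq : d⁻¹ * y * d * (d⁻¹ * y * d) = t := by
      calc d⁻¹ * y * d * (d⁻¹ * y * d) = d⁻¹ * (y * y) * d := by group
        _ = t := by rw [hy, ← hd, ht]; group
    obtain ⟨p, hp, k, hkO, hpk⟩ := c.cent_t (g := d⁻¹ * y * d) (by rw [← ht, ← hsq]; group)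
    have hkp : p⁻¹ * k * p ∈ oddCent t := by simpa using c.P_conj_mem (inv_mem hp) hkO
    obtain ⟨hp2, -⟩ := c.decomp_unique (mul_mem hp hp) (mul_mem c.S.hσ c.S.hσ)
      (mul_mem hkp hkO) (one_mem _) (show p * p * (p⁻¹ * k * p * k) = σ * σ * 1 by
        rw [mul_one, ← ht, ← hsq, hpk]; group)
    have hp4 : p = σ ∨ p = σ⁻¹ := by
      have hne := c.t_ne
      have hinv2 : ∀ q : G, q * q = 1 → p ≠ q := fun q hq h => hne (by rw [← hp2, h, hq])
      rcases c.mem_cases hp with h | h | h | h | h | h | h | h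
      · exact absurd h (hinv2 _ (one_mul 1))
      · exact Or.inl h
      · exact absurd h (hinv2 _ c.tt)
      · exact Or.inr h
      · exact absurd h (hinv2 _ c.ττ)
      · exact absurd h (hinv2 _ c.στστ)
      · exact absurd h (hinv2 _ (Involution.mul_self_of_orderOf c.ord_tτ))
      · refine absurd h (hinv2 _ ?_)
        rw [show σ⁻¹ * τ * (σ⁻¹ * τ) = σ⁻¹ * (τ * σ⁻¹ * τ) by group,
          conj_invol_inv' c.ττ, c.τστ, inv_inv, inv_mul_cancel]
    refine Finset.mem_image.mpr ⟨(⟨k, hkO⟩, decide (p = σ)), Finset.mem_univ _, ?_⟩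
    have hσσ : σ⁻¹ ≠ σ := fun h => c.t_ne (by nth_rw 1 [← h]; exact inv_mul_cancel σ)
    rcases hp4 with rfl | rfl
    · simp only [g, decide_true, if_true]; rw [← hpk]; group
    · simp only [g, decide_eq_true_eq, hσσ, if_false]; rw [← hpk]; group
  set NC := (R ×ˢ N).filter fun q => q.1 * q.2 ≠ q.2 * q.1 with hNC
  have hcomm1 : ∀ r ∈ R, ∀ n ∈ N, r * n = n * r → ∀ x ∈ X, x * u * x⁻¹ = r → n = x * t * x⁻¹ := by
    intro r _ n hn hrn x hx hxr
    obtain ⟨-, hnX, hn2⟩ := Finset.mem_filter.mp hn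
    have h := hinv (x⁻¹ * n * x) (mul_mem (mul_mem (inv_mem hx) hnX) hx) ?_ ?_
    · rw [← h]; group
    · skip
      calc x⁻¹ * n * x * u = x⁻¹ * (n * (x * u * x⁻¹)) * x := by group
        _ = u * (x⁻¹ * n * x) := by rw [hxr, ← hrn, ← hxr]; group
    · have := orderOf_conj' x⁻¹ n; rw [inv_inv, hn2] at this; exact this
  have hlow : R.card * N.card ≤ NC.card + R.card := by
    have h1 : ((R ×ˢ N).filter fun q => ¬ q.1 * q.2 ≠ q.2 * q.1).card ≤ R.card := by
      refine Finset.card_le_card_of_injOn Prod.fst (fun q hq => ?_) fun q hq q' hq' e => ?_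
      · exact (Finset.mem_product.mp (Finset.mem_filter.mp hq).1).1
      · simp only [Finset.coe_filter, Set.mem_setOf_eq, not_not, Finset.mem_product] at hq hq'
        obtain ⟨x, hx, hxr⟩ := hRmem q.1 hq.1.1
        refine Prod.ext e ?_
        rw [hcomm1 _ hq.1.1 _ hq.1.2 hq.2 x hx hxr, hcomm1 _ hq'.1.1 _ hq'.1.2 hq'.2 x hx (hxr.trans e)]
    have h2 := Finset.card_filter_add_card_filter_not (s := R ×ˢ N) fun q => q.1 * q.2 ≠ q.2 * q.1
    rw [Finset.card_product] at h2
    rw [hNC]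
    omega
  have hWmap : ∀ q ∈ NC, q.1 * q.2 ∈ W := by
    intro q hq
    obtain ⟨hqRN, hne⟩ := Finset.mem_filter.mp hq
    obtain ⟨hqR, hqN⟩ := Finset.mem_product.mp hqRN
    obtain ⟨x, hx, hxr⟩ := hRmem _ hqR
    obtain ⟨-, hnX, hn2⟩ := Finset.mem_filter.mp hqN
    set r := q.1
    set n := q.2
    have hrr : r * r = 1 := by
      rw [← hxr, show x * u * x⁻¹ * (x * u * x⁻¹) = x * (u * u) * x⁻¹ by group, huu]
      group
    have hnn : n * n = 1 := Involution.mul_self_of_orderOf hn2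
    have hur : u * r ∈ X := by
      rw [← hxr, show u * (x * u * x⁻¹) = u * x * u * x⁻¹ by group]
      exact mul_mem (hconjX x hx) (inv_mem hx)
    have hrX : r ∉ X := fun h => huX (by
      have := mul_mem hur (inv_mem h); rwa [mul_inv_cancel_right] at this)
    have hconjr : ∀ y ∈ X, r * y * r ∈ X := fun y hy => by
      rw [← hxr, show x * u * x⁻¹ * y * (x * u * x⁻¹) = x * (u * (x⁻¹ * y * x) * u) * x⁻¹ by group]
      exact mul_mem (mul_mem hx (hconjX _ (mul_mem (mul_mem (inv_mem hx) hy) hx))) (inv_mem hx)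
    set g := r * n
    have hg2 : g * g ∈ X := by
      show r * n * (r * n) ∈ X
      rw [← mul_assoc]
      exact mul_mem (hconjr n hnX) hnX
    have hgX : g ∉ X := fun h => hrX (by
      have := mul_mem h (inv_mem hnX); rwa [mul_inv_cancel_right] at this)
    rcases Nat.even_or_odd (orderOf g) with he | ho
    swap
    · obtain ⟨m, hm⟩ := ho
      refine absurd ?_ hgX
      have hgm := X.pow_mem hg2 (m + 1)
      rwa [← pow_two, ← pow_mul, show 2 * (m + 1) = orderOf g + 1 by omega, pow_succ,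
        pow_orderOf_eq_one, one_mul] at hgm
    obtain ⟨m, hm⟩ := he
    have hpos : orderOf g ≠ 0 := (orderOf_pos g).ne'
    have hev : Even (orderOf g) := ⟨m, hm⟩
    set z := g ^ (orderOf g / 2) with hz
    have hzo : orderOf z = 2 := Involution.orderOf_pow_half hev hpos
    have hzr : r * z = z * r := by
      have := Involution.commute_pow_half_left hrr hnn hev
      first | exact this.eq | exact this.symm.eq | exact this | exact this.symm
    have hzn : n * z = z * n := by
      have := Involution.commute_pow_half_right hrr hnn hev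
      first | exact this.eq | exact this.symm.eq | exact this | exact this.symm
    rcases Nat.even_or_odd m with ⟨i, hi⟩ | ⟨i, hi⟩
    · -- an element of order four in `⟨g⟩`
      have h4 : orderOf (g ^ i) = 4 := by
        rw [orderOf_pow g, Nat.gcd_eq_right ⟨4, by omega⟩]
        exact Nat.div_eq_of_eq_mul_left (by omega) (by omega)
      have hgz := c.cent_four h4 (Commute.self_pow g i).eq
      have := orderOf_dvd_of_mem_zpowers hgz
      rw [h4] at this
      have hgo : orderOf g = 4 := by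
        have := Nat.le_of_dvd (by norm_num) this
        omega
      refine Finset.mem_filter.mpr ⟨Finset.mem_univ _, Finset.mem_filter.mpr
        ⟨Finset.mem_univ _, hg2, ?_⟩⟩
      rw [← pow_two, orderOf_pow' _ two_ne_zero, hgo]; norm_num
    · exfalso
      apply hne
      have hhalf : orderOf g / 2 = 2 * i + 1 := by omega
      have hzX : z ∉ X := fun h => hgX (by
        have h2 : g ^ (2 * i) ∈ X := by rw [pow_mul, pow_two]; exact X.pow_mem hg2 i
        have := mul_mem (inv_mem h2) h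
        rwa [hz, hhalf, pow_succ, inv_mul_cancel_left] at this)
      have huz : u * z ∈ X := by
        have h2 : g ^ (2 * i) ∈ X := by rw [pow_mul, pow_two]; exact X.pow_mem hg2 i
        rw [hz, hhalf, pow_succ', show u * (g * g ^ (2 * i)) = u * r * n * g ^ (2 * i) by
          rw [← mul_assoc, ← mul_assoc]]
        exact mul_mem (mul_mem hur hnX) h2
      have hrzX : r * z ∈ X := by
        rw [show r * z = (u * r)⁻¹ * (u * z) * 1 by
          rw [mul_one, mul_inv_rev, inv_eq_of_mul_eq_one_right hrr, mul_assoc, inv_mul_cancel_left]]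
        exact mul_mem (mul_mem (inv_mem hur) huz) (one_mem _)
      by_cases hrz : r = z
      · show r * n = n * r
        rw [hrz]; exact hzn.symm
      have hrz2 : orderOf (r * z) = 2 := by
        refine orderOf_two_of ?_ fun h => hrz ?_
        · rw [show r * z * (r * z) = r * (z * r) * z by group, ← hzr,
            show r * (r * z) * z = r * r * (z * z) by group, hrr,
            Involution.mul_self_of_orderOf hzo, one_mul]
        · calc r = r * z * z := by rw [mul_assoc, Involution.mul_self_of_orderOf hzo, mul_one]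
            _ = z := by rw [h, one_mul]
      have hrzN : r * z ∈ N := Finset.mem_filter.mpr ⟨Finset.mem_univ _, hrzX, hrz2⟩
      have e1 := hcomm1 r hqR (r * z) hrzN (by rw [← mul_assoc, mul_assoc r z r, ← hzr]; group) x hx hxr
      have hzR : z = x * τ * u * (x * τ)⁻¹ := by
        calc z = r * (r * z) := by rw [← mul_assoc, hrr, one_mul]
          _ = x * (u * t) * x⁻¹ := by rw [e1, ← hxr]; group
          _ = x * τ * u * (x * τ)⁻¹ := by
            have hut : τ * u * τ = u * t := by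
              rw [hu, ht, mul_assoc τ (σ * τ) τ, mul_assoc σ τ τ, c.ττ, mul_one,
                mul_assoc σ τ (σ * σ), c.τ_comm, ← mul_assoc, ← mul_assoc, ← c.σ_inv]
              calc τ * σ = τ * σ * (τ * τ) := by rw [c.ττ, mul_one]
                _ = σ⁻¹ * τ := by rw [← mul_assoc, c.τστ]
            rw [mul_inv_rev, inv_eq_of_mul_eq_one_right c.ττ, ← hut]; group
      have hxτ : x * τ ∈ X := mul_mem hx c.τ_mem_X
      have hzRm : z ∈ R := Finset.mem_image.mpr ⟨x * τ, (hmemX _).mpr hxτ, hzR.symm⟩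
      have e2 := hcomm1 z hzRm n hqN hzn.symm _ hxτ hzR.symm
      have e3 := hcomm1 z hzRm (r * z) hrzN
        (by rw [mul_assoc r z z, ← mul_assoc z r z, ← hzr, mul_assoc r z z]) _ hxτ hzR.symm
      show r * n = n * r
      rw [show n = r * z from e2.trans e3.symm, ← mul_assoc, hrr, one_mul, mul_assoc, ← hzr, ← mul_assoc, hrr, one_mul]
  have hup : NC.card ≤ 2 * W.card := by
    refine Finset.card_le_mul_card_image_of_maps_to (f := fun q => q.1 * q.2) hWmap 2 ?_
    · intro g _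
      -- at most two pairs with a given product
      by_contra hgt
      push Not at hgt
      obtain ⟨a, ha, b, hb, d, hd, hab, had, hbd⟩ := Finset.two_lt_card.mp hgt
      have hdata : ∀ q ∈ NC.filter (fun q => q.1 * q.2 = g),
          q.1 * q.1 = 1 ∧ q.1 * g * q.1 = g⁻¹ ∧ u * q.1 ∈ X ∧ q.2 = q.1 * g := by
        intro q hq
        obtain ⟨hq1, hqg⟩ := Finset.mem_filter.mp hq
        obtain ⟨hqR, hqN⟩ := Finset.mem_product.mp (Finset.mem_filter.mp hq1).1
        obtain ⟨x, hx, hxr⟩ := hRmem _ hqR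
        have hnn : q.2 * q.2 = 1 := Involution.mul_self_of_orderOf (Finset.mem_filter.mp hqN).2.2
        have hrr : q.1 * q.1 = 1 := by
          rw [← hxr, show x * u * x⁻¹ * (x * u * x⁻¹) = x * (u * u) * x⁻¹ by group, huu]; group
        refine ⟨hrr, ?_, ?_, ?_⟩
        · rw [← hqg, mul_inv_rev, inv_eq_of_mul_eq_one_right hrr, inv_eq_of_mul_eq_one_right hnn,
            ← mul_assoc, hrr, one_mul]
        · rw [← hxr, show u * (x * u * x⁻¹) = u * x * u * x⁻¹ by group]
          exact mul_mem (hconjX x hx) (inv_mem hx)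
        · rw [← hqg, ← mul_assoc, hrr, one_mul]
      have hgne : g ∉ X ∧ orderOf g = 4 := by
        obtain ⟨ha1, hag⟩ := Finset.mem_filter.mp ha
        obtain ⟨haR, haN⟩ := Finset.mem_product.mp (Finset.mem_filter.mp ha1).1
        obtain ⟨haa, hainv, hau, ha2⟩ := hdata a ha
        have hgX : g ∉ X := fun h => huX (by
          have h1 : a.1 ∈ X := by
            rw [← mul_inv_cancel_right a.1 g, ← ha2]
            exact mul_mem (Finset.mem_filter.mp haN).2.1 (inv_mem h)
          have := mul_mem hau (inv_mem h1); rwa [mul_inv_cancel_right] at this)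
        refine ⟨hgX, ?_⟩
        -- `g ∈ W`
        have hmapsto : g * g ∈ N := by
          have h2 := hWmap a ha1
          rw [hag] at h2
          exact (Finset.mem_filter.mp h2).2
        obtain ⟨-, -, hg2⟩ := Finset.mem_filter.mp hmapsto
        refine orderOf_eq_prime_pow (p := 2) (n := 1) (fun h => ?_) ?_
        · rw [pow_one, pow_two] at h
          rw [h, orderOf_one] at hg2; omega
        · rw [show (2 : ℕ) ^ (1 + 1) = 2 * 2 by norm_num, pow_mul, pow_two g, pow_two,
            Involution.mul_self_of_orderOf hg2]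
      obtain ⟨hgX, hg4⟩ := hgne
      have hrel : ∀ q ∈ NC.filter (fun q => q.1 * q.2 = g), q.1 = a.1 ∨ q.1 = a.1 * (g * g) := by
        intro q hq
        obtain ⟨haa, hainv, hau, -⟩ := hdata a ha
        obtain ⟨hqq, hqinv, hqu, -⟩ := hdata q hq
        have hcm : a.1 * q.1 * g = g * (a.1 * q.1) := by
          have h1 : q.1 * g = g⁻¹ * q.1 := by
            rw [← hqinv, mul_assoc (q.1 * g) q.1 q.1, hqq, mul_one]
          have h2 : a.1 * g⁻¹ = g * a.1 := by
            rw [← hainv, ← mul_assoc, ← mul_assoc, haa, one_mul]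
          rw [mul_assoc, h1, ← mul_assoc, h2, mul_assoc]
        obtain ⟨i, hi⟩ := Subgroup.mem_zpowers_iff.mp (c.cent_four hg4 hcm)
        have hmem : a.1 * q.1 ∈ X := by
          have := mul_mem (inv_mem hau) hqu
          rwa [mul_inv_rev, inv_eq_of_mul_eq_one_right haa, mul_assoc, inv_mul_cancel_left] at this
        have hq' : q.1 = a.1 * g ^ i := by rw [hi, ← mul_assoc, haa, one_mul]
        rw [← zpow_mod_orderOf, hg4] at hi hq'
        have h4 : i % 4 = 0 ∨ i % 4 = 1 ∨ i % 4 = 2 ∨ i % 4 = 3 := by omega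
        rcases h4 with h | h | h | h <;> simp only [Nat.cast_ofNat, h] at hi hq'
        · exact Or.inl (by rw [hq', zpow_zero, mul_one])
        · rw [zpow_one] at hi; exact absurd (hi ▸ hmem) hgX
        · exact Or.inr (by rw [hq', zpow_two])
        · refine absurd ?_ hgX
          have hg3 : g ^ (3 : ℤ) ∈ X := hi ▸ hmem
          have h4' : g ^ (4 : ℤ) = 1 := by
            rw [show (4 : ℤ) = ((4 : ℕ) : ℤ) by norm_num, zpow_natCast, ← hg4, pow_orderOf_eq_one]
          have : g = (g ^ (3 : ℤ))⁻¹ := by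
            rw [eq_inv_iff_mul_eq_one, ← zpow_one_add]
            exact h4'
          rw [this]; exact inv_mem hg3
      have hext : ∀ q ∈ NC.filter (fun q => q.1 * q.2 = g),
          ∀ q' ∈ NC.filter (fun q => q.1 * q.2 = g), q.1 = q'.1 → q = q' := fun q hq q' hq' e =>
        Prod.ext e (by rw [(hdata q hq).2.2.2, (hdata q' hq').2.2.2, e])
      rcases hrel b hb with hb' | hb'
      · exact hab (hext a ha b hb hb'.symm)
      rcases hrel d hd with hd' | hd'
      · exact had (hext a ha d hd hd'.symm)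
      · exact hbd (hext b hb d hd (hb'.trans hd'.symm))
  -- the class of `t`
  obtain ⟨b, hb1, hb2, hb3⟩ := c.exists_exchange
  have hbinv : ∀ y ∈ O1 σ τ, b * y * b⁻¹ = y⁻¹ := fun y hy => hb3 y (c.O1_le_tτ hy)
  have hσinv : ∀ y ∈ O1 σ τ, σ * y * σ⁻¹ = y⁻¹ := fun y hy => (c.σ_inverts (c.O1_le hy)).1
  have hh₁ : σ * b ∈ X := c.inverts_mul_mem hσinv hbinv
  have hh₂ : b * σ ∈ X := c.inverts_mul_mem hbinv hσinv
  set Z := Finset.univ.filter fun x : G => x ∈ O2 σ τ with hZ
  have hZc : Z.card = k₂ := by rw [hk₂, Nat.card_eq_fintype_card, Fintype.card_subtype]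
  set F := insert t ((Z.image fun o => τ * o) ∪ (Z.image fun o => t * τ * o)) with hF
  have hne1 : ∀ o ∈ Z, τ * o ≠ t ∧ t * τ * o ≠ t := by
    intro o ho
    have hoO := c.O2_le (Finset.mem_filter.mp ho).2
    constructor <;> intro h
    · exact c.t_ne_τ (c.decomp_unique c.S.hτ (mul_mem c.S.hσ c.S.hσ) hoO (one_mem _)
        (by rw [mul_one, ← ht, h])).1.symm
    · exact c.S.tau_ne (mul_eq_left.mp (c.decomp_unique (mul_mem (mul_mem c.S.hσ c.S.hσ) c.S.hτ)
        (mul_mem c.S.hσ c.S.hσ) hoO (one_mem _) (by rw [mul_one, ← ht, h])).1)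
  have hFc : F.card = 2 * k₂ + 1 := by
    rw [hF, Finset.card_insert_of_notMem, Finset.card_union_of_disjoint,
      Finset.card_image_of_injective _ (mul_right_injective τ),
      Finset.card_image_of_injective _ (mul_right_injective (t * τ)), hZc]
    · ring
    · rw [Finset.disjoint_left]
      intro a h1 h2
      obtain ⟨o, ho, rfl⟩ := Finset.mem_image.mp h1
      obtain ⟨o', ho', he⟩ := Finset.mem_image.mp h2
      refine c.t_ne (mul_eq_right.mp (c.decomp_unique (mul_mem (mul_mem c.S.hσ c.S.hσ) c.S.hτ)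
        c.S.hτ (c.O2_le (Finset.mem_filter.mp ho').2) (c.O2_le (Finset.mem_filter.mp ho).2) he).1)
    · intro h
      rcases Finset.mem_union.mp h with h | h <;> obtain ⟨o, ho, he⟩ := Finset.mem_image.mp h
      · exact (hne1 o ho).1 he
      · exact (hne1 o ho).2 he
  have hFT : F ⊆ T := by
    intro a ha
    rcases Finset.mem_insert.mp ha with rfl | ha
    · exact Finset.mem_image.mpr ⟨1, (hmemX 1).mpr (one_mem _), by group⟩
    have hshift : ∀ w : G, w * w = 1 → (∀ o ∈ O2 σ τ, w * o * w = o⁻¹) → w ∈ T →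
        ∀ o ∈ Z, w * o ∈ T := by
      intro w hw hwinv hwT o ho
      obtain ⟨x, hx, rfl⟩ := Finset.mem_image.mp hwT
      have hoO := (Finset.mem_filter.mp ho).2
      set d := (oddSqrt o)⁻¹ with hd
      have hdO : d ∈ O2 σ τ := inv_mem (Subgroup.pow_mem _ hoO _)
      refine Finset.mem_image.mpr ⟨d * x, (hmemX _).mpr (mul_mem (c.O_le_X (c.O2_le hdO))
        ((hmemX x).mp hx)), ?_⟩
      set w := x * t * x⁻¹
      calc d * x * t * (d * x)⁻¹ = w * (w * d * w) * d⁻¹ * 1 := by
            rw [show w * (w * d * w) * d⁻¹ * 1 = w * w * d * w * d⁻¹ by group, hw]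
            simp only [w]; group
        _ = w * o := by
          rw [hwinv d hdO, hd, inv_inv, mul_one, mul_assoc,
            oddSqrt_mul_self (c.mem_O.mp (c.O2_le hoO)).2]
    have hτT : τ ∈ T := Finset.mem_image.mpr ⟨b * σ, (hmemX _).mpr hh₂, by
      rw [show b * σ * t * (b * σ)⁻¹ = b * (σ * t * σ⁻¹) * b⁻¹ by group, ht,
        show σ * (σ * σ) * σ⁻¹ = σ * σ by group, hb1]⟩
    have htτT : t * τ ∈ T := Finset.mem_image.mpr ⟨σ * b, (hmemX _).mpr hh₁, by
      rw [show σ * b * t * (σ * b)⁻¹ = σ * (b * t * b⁻¹) * σ⁻¹ by group, ht, hb1, c.στσ]⟩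
    rcases Finset.mem_union.mp ha with ha | ha <;> obtain ⟨o, ho, rfl⟩ := Finset.mem_image.mp ha
    · exact hshift τ c.ττ (fun o ho => (c.mem_O2.mp ho).2) hτT o ho
    · refine hshift (t * τ) (Involution.mul_self_of_orderOf c.ord_tτ) (fun o ho => ?_) htτT o ho
      obtain ⟨hoO, hoτ⟩ := c.mem_O2.mp ho
      have hoit : o⁻¹ * t = t * o⁻¹ := (c.mem_O.mp (inv_mem hoO)).1
      calc t * τ * o * (t * τ) = t * (τ * o * τ) * t := by
            rw [show t * τ * o * (t * τ) = t * τ * o * (τ * t) by rw [show τ * t = t * τ from c.τ_comm]]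
            group
        _ = o⁻¹ := by rw [hoτ, mul_assoc, hoit, ← mul_assoc, c.tt, one_mul]
  have hc1 : 2 * k₂ + 1 ≤ T.card := hFc ▸ Finset.card_le_card hFT
  have hTN' : T.card ≤ N.card := Finset.card_le_card hTN
  have hk₁pos : 0 < k₁ := Nat.card_pos
  have hk₂pos : 0 < k₂ := Nat.card_pos
  obtain ⟨n₀, hn₀⟩ : ∃ n₀, N.card = n₀ + 1 := ⟨N.card - 1, by omega⟩
  -- `|X| (|N| - 1) ≤ 8 k₁ k₂² |N|`
  have h5 : R.card * n₀ ≤ 4 * (k₁ * k₂) * N.card := by
    rw [hn₀] at hlow
    have : NC.card ≤ 4 * (k₁ * k₂) * N.card := by linarith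
    rw [Nat.mul_succ] at hlow
    linarith
  have h6 : Nat.card X * n₀ ≤ 2 * k₂ * (4 * (k₁ * k₂) * N.card) :=
    (Nat.mul_le_mul_right n₀ hRc).trans (by rw [mul_assoc (2 * k₂)]; exact Nat.mul_le_mul_left _ h5)
  have h7 : T.card * n₀ ≤ 2 * k₂ * N.card := by
    refine Nat.le_of_mul_le_mul_left ?_ (show 0 < 4 * k₁ * k₂ by positivity)
    calc 4 * k₁ * k₂ * (T.card * n₀) = 4 * k₁ * k₂ * T.card * n₀ := by ring
      _ ≤ Nat.card X * n₀ := Nat.mul_le_mul_right n₀ hTc
      _ ≤ _ := h6.trans (le_of_eq (by ring))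
  have hTc' : T.card = 2 * k₂ + 1 := by
    by_contra hne
    have : (2 * k₂ + 2) * n₀ ≤ 2 * k₂ * N.card := (Nat.mul_le_mul_right n₀ (by omega)).trans h7
    rw [hn₀] at this
    nlinarith
  have hTF : T = F := (Finset.eq_of_subset_of_card_le hFT (by omega)).symm
  have hcommT : ∀ a ∈ T, a * t = t * a := by
    intro a ha
    rw [hTF] at ha
    rcases Finset.mem_insert.mp ha with rfl | ha
    · rfl
    rcases Finset.mem_union.mp ha with ha | ha <;> obtain ⟨o, ho, rfl⟩ := Finset.mem_image.mp ha <;>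
      have hot : o * t = t * o := (c.mem_O.mp (c.O2_le (Finset.mem_filter.mp ho).2)).1
    · rw [mul_assoc, hot, ← mul_assoc, show τ * t = t * τ from c.τ_comm, mul_assoc]
    · rw [mul_assoc, hot, ← mul_assoc, mul_assoc t τ t, show τ * t = t * τ from c.τ_comm]; group
  have hk2 : k₂ = 1 := by
    rw [hk₂, Subgroup.card_eq_one, Subgroup.eq_bot_iff_forall]
    intro o ho
    have hoT : τ * o ∈ T := hTF ▸ Finset.mem_insert_of_mem
      (Finset.mem_union_left _ (Finset.mem_image_of_mem _ (Finset.mem_filter.mpr ⟨Finset.mem_univ o, ho⟩)))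
    -- conjugate back by `h : t ↦ τ`
    have hh : b * σ * t * (b * σ)⁻¹ = τ := by
      rw [show b * σ * t * (b * σ)⁻¹ = b * (σ * t * σ⁻¹) * b⁻¹ by group, ht,
        show σ * (σ * σ) * σ⁻¹ = σ * σ by group, hb1]
    have hpre : (b * σ)⁻¹ * (τ * o) * (b * σ) ∈ T := by
      obtain ⟨x, hx, e⟩ := Finset.mem_image.mp hoT
      refine Finset.mem_image.mpr ⟨(b * σ)⁻¹ * x,
        (hmemX _).mpr (mul_mem (inv_mem hh₂) ((hmemX x).mp hx)), ?_⟩
      rw [← e]; group
    have h := hcommT _ hpre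
    have h' := commute_conj (c := b * σ) h
    rw [hh, show b * σ * ((b * σ)⁻¹ * (τ * o) * (b * σ)) * (b * σ)⁻¹ = τ * o by group] at h'
    rw [mul_assoc] at h'
    have h'' : o * τ = τ * o := mul_left_cancel h'
    obtain ⟨hoO, hoτ⟩ := c.mem_O2.mp ho
    exact c.eq_one_of_inv_eq hoO (by rw [← hoτ]; exact conj_eq_of_commute c.ττ h'')
  refine ⟨hk2, ?_⟩
  rw [hk2] at hTc hTc' h6 hc1
  rw [hTc'] at hTc
  have h8 : Nat.card X * n₀ ≤ 8 * k₁ * (n₀ + 1) := by rw [← hn₀]; linarith
  have : 2 ≤ n₀ := by omega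
  nlinarith

end Cfg

end Cfsg.Agent.SmallCent88
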