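import Cfsg.Agent.SmallCent88.Config
import Cfsg.Agent.Lib.Involution.IndexTwo

/-!
# The two four groups and the odd parts of their centralizers
-/

set_option autoImplicit false
set_option linter.style.haveILetI false

namespace Cfsg.Agent.SmallCent88

variable {G : Type*} [Group G] {P : Sylow 2 G} {σ τ : G}

/-- If the centralizer of an involution `t` in `H` is `⟨t⟩` times odd order, the odd-order elements
of `H` form a subgroup. -/
theorem exists_oddPart [Finite G] {H : Subgroup G} {t : G} (ht : orderOf t = 2) (htH : t ∈ H)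
    (hC : ∀ x ∈ H, x * t = t * x → Odd (orderOf x) ∨ Odd (orderOf (x * t))) :
    ∃ U : Subgroup G, ∀ x, x ∈ U ↔ x ∈ H ∧ Odd (orderOf x) := by
  haveI : Fact (Nat.Prime 2) := ⟨Nat.prime_two⟩
  set t' : H := ⟨t, htH⟩
  have ht' : orderOf t' = 2 := by rw [← Subgroup.orderOf_coe, ht]
  have hsmall : ∀ x : H, (∃ k, orderOf x = 2 ^ k) → x * t' = t' * x → x = 1 ∨ x = t' := by
    rintro x ⟨k, hk⟩ hxt
    have h1 : ∀ y : H, (∃ k, y ^ 2 ^ k = 1) → Odd (orderOf (y : G)) → y = 1 := by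
      rintro y ⟨k, hk⟩ ho
      rw [Subgroup.orderOf_coe] at ho
      have h5 := Nat.dvd_gcd (dvd_refl (orderOf y)) (orderOf_dvd_of_pow_eq_one hk)
      rw [Nat.Coprime.gcd_eq_one (ho.coprime_two_right.pow_right k)] at h5
      exact orderOf_eq_one_iff.mp (Nat.dvd_one.mp h5)
    rcases hC x x.2 (congrArg Subtype.val hxt) with h | h
    · exact Or.inl (h1 x ⟨k, by rw [← hk, pow_orderOf_eq_one]⟩ h)
    · refine Or.inr ?_
      have := h1 (x * t') ⟨k + 1, by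
        rw [(show Commute x t' from hxt).mul_pow, pow_succ, pow_mul x, ← hk, pow_orderOf_eq_one,
          one_pow, one_mul, mul_comm, pow_mul, ← ht', pow_orderOf_eq_one, one_pow]⟩ h
      calc x = x * t' * t' := by
            rw [mul_assoc, ← pow_two, ← ht', pow_orderOf_eq_one, mul_one]
        _ = t' := by rw [this, one_mul]
  have hp : IsPGroup 2 (Subgroup.zpowers t') :=
    IsPGroup.of_card (n := 1) (by rw [Nat.card_zpowers, ht', pow_one])
  obtain ⟨T, hT⟩ := hp.exists_le_sylow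
  have hT2 : (T : Subgroup H) = Subgroup.zpowers t' := by
    refine le_antisymm (fun p hp' => ?_) hT
    have htT : t' ∈ (T : Subgroup H) := hT (Subgroup.mem_zpowers t')
    have hord : ∀ q ∈ (T : Subgroup H), ∃ k, orderOf q = 2 ^ k := fun q hq => by
      obtain ⟨k, hk⟩ := T.2 ⟨q, hq⟩
      exact exists_orderOf_eq_prime_pow_iff.mpr ⟨k, congrArg Subtype.val hk⟩
    -- a central involution of the Sylow subgroup is `t'`
    haveI : Nontrivial (T : Subgroup H) := ⟨⟨⟨t', htT⟩, 1, fun h => by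
      have : t' = 1 := congrArg Subtype.val h
      rw [this, orderOf_one] at ht'; omega⟩⟩
    haveI := T.2.center_nontrivial
    obtain ⟨z, hz⟩ := exists_ne (1 : Subgroup.center (T : Subgroup H))
    have hzc : ∀ q : (T : Subgroup H), q * z.1 = z.1 * q := Subgroup.mem_center_iff.mp z.2
    rcases hsmall z.1.1 (hord _ z.1.2) (congrArg Subtype.val (hzc ⟨t', htT⟩)).symm with h | h
    · exact absurd (Subtype.ext (Subtype.ext h)) hz
    · have hpt : p * t' = t' * p := by rw [← h]; exact congrArg Subtype.val (hzc ⟨p, hp'⟩)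
      rcases hsmall p (hord p hp') hpt with e | e <;> rw [e]
      · exact one_mem _
      · exact Subgroup.mem_zpowers t'
  have hcard : Nat.card (T : Subgroup H) = 2 := by rw [hT2, Nat.card_zpowers, ht']
  have heven : Even (Nat.card H) := by
    rw [even_iff_two_dvd, ← hcard]; exact Subgroup.card_subgroup_dvd_card _
  obtain ⟨M, hM⟩ := Involution.exists_index_two_of_cyclic_sylow heven T
    (hT2 ▸ inferInstance)
  have hModd : Odd (Nat.card M) := by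
    have h1 := M.index_mul_card
    have h2 := (T : Subgroup H).index_mul_card
    have h3 := T.not_dvd_index
    rw [hM] at h1
    rw [hcard] at h2
    rw [Nat.odd_iff]
    omega
  refine ⟨M.map H.subtype, fun x => ⟨?_, ?_⟩⟩
  · rintro ⟨m, hm, rfl⟩
    refine ⟨m.2, ?_⟩
    show Odd (orderOf (m : G))
    rw [Subgroup.orderOf_coe]
    exact hModd.of_dvd_nat (Subgroup.orderOf_dvd_natCard M hm)
  · rintro ⟨hxH, hxo⟩
    refine ⟨⟨x, hxH⟩, ?_, rfl⟩
    obtain ⟨m, hm⟩ := hxo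
    rw [← Subgroup.orderOf_mk x hxH] at hm
    have hpow : (⟨x, hxH⟩ : H) ^ (2 * (m + 1)) ∈ M := by
      rw [pow_mul]; exact M.pow_mem (Subgroup.sq_mem_of_index_two hM _) _
    rwa [show 2 * (m + 1) = orderOf (⟨x, hxH⟩ : H) + 1 by omega, pow_succ, pow_orderOf_eq_one,
      one_mul] at hpow

/-- The part of `O` centralized by `τ`. -/
def O1 (σ τ : G) : Subgroup G := fixIn (oddCent (σ * σ)) τ

/-- The part of `O` centralized by `σ τ` (inverted by `τ`). -/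
def O2 (σ τ : G) : Subgroup G := fixIn (oddCent (σ * σ)) (σ * τ)

namespace Cfg

variable [Finite G] (c : Cfg P σ τ)
include c

theorem O1_le {x : G} (hx : x ∈ O1 σ τ) : x ∈ oddCent (σ * σ) := (mem_fixIn.mp hx).1

theorem O2_le {x : G} (hx : x ∈ O2 σ τ) : x ∈ oddCent (σ * σ) := (mem_fixIn.mp hx).1

theorem O1_symm : O1 σ (σ * τ) = O2 σ τ := rfl

theorem O2_symm : O2 σ (σ * τ) = O1 σ τ := by
  have hc : ∀ x : G, x * (σ * σ) = σ * σ * x → (x * (σ * (σ * τ)) = σ * (σ * τ) * x ↔ x * τ = τ * x) := by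
    intro x hx
    rw [← mul_assoc σ σ τ, ← mul_assoc x (σ * σ) τ, hx, mul_assoc (σ * σ) x τ, mul_assoc (σ * σ) τ x]
    exact mul_right_inj _
  ext x
  rw [O2, O1, mem_fixIn, mem_fixIn]
  exact and_congr_right fun h => hc x (c.mem_O.mp h).1

theorem oddInvO : OddInv (oddCent (σ * σ)) τ :=
  c.oddInv_oddCent c.ord_t c.ττ c.τ_comm

theorem mem_O1 {x : G} : x ∈ O1 σ τ ↔ x ∈ oddCent (σ * σ) ∧ τ * x * τ = x := by
  rw [O1, mem_fixIn]
  exact and_congr_right fun _ => ⟨conj_eq_of_commute c.ττ, commute_of_conj_eq c.ττ⟩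

theorem mem_O2 {x : G} : x ∈ O2 σ τ ↔ x ∈ oddCent (σ * σ) ∧ τ * x * τ = x⁻¹ := by
  rw [O2, mem_fixIn]
  refine and_congr_right fun hx => ?_
  have h1 : σ * τ * x * (σ * τ) = (τ * x * τ)⁻¹ := by
    rw [← (c.σ_inverts (c.oddInvO.mem x hx)).1, ← mul_assoc]
    calc σ * τ * x * σ * τ = σ * (τ * x * (τ * τ)) * σ * τ := by rw [c.ττ, mul_one]; group
      _ = σ * (τ * x * τ) * (τ * σ * τ) := by group
      _ = σ * (τ * x * τ) * σ⁻¹ := by rw [c.τστ]
  constructor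
  · intro h
    rw [← inv_inv (τ * x * τ), ← h1, conj_eq_of_commute c.στστ h]
  · intro h
    exact commute_of_conj_eq c.στστ (by rw [h1, h, inv_inv])

theorem τ_decomp {x : G} (hx : x ∈ oddCent (σ * σ)) :
    ∃ a ∈ O1 σ τ, ∃ b ∈ O2 σ τ, x = a * b := by
  obtain ⟨a, haU, b, hbU, ha, hb, rfl⟩ := c.oddInvO.exists_ci hx
  exact ⟨a, c.mem_O1.mpr ⟨haU, ha⟩, b, c.mem_O2.mpr ⟨hbU, hb⟩, rfl⟩

theorem card_O : Nat.card (oddCent (σ * σ)) = Nat.card (O1 σ τ) * Nat.card (O2 σ τ) := by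
  rw [← Nat.card_prod]
  refine (Nat.card_eq_of_bijective (fun p : O1 σ τ × O2 σ τ =>
    (⟨(p.1 : G) * p.2, mul_mem (c.O1_le p.1.2) (c.O2_le p.2.2)⟩ : oddCent (σ * σ))) ⟨?_, ?_⟩).symm
  · rintro ⟨⟨a, ha⟩, ⟨b, hb⟩⟩ ⟨⟨a', ha'⟩, ⟨b', hb'⟩⟩ h
    obtain ⟨e1, e2⟩ := c.oddInvO.ci_unique (c.O2_le hb) (c.O2_le hb') (c.mem_O1.mp ha).2
      (c.mem_O1.mp ha').2 (c.mem_O2.mp hb).2 (c.mem_O2.mp hb').2 (congrArg Subtype.val h)
    subst e1 e2; rfl
  · rintro ⟨x, hx⟩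
    obtain ⟨a, ha, b, hb, rfl⟩ := c.τ_decomp hx
    exact ⟨(⟨a, ha⟩, ⟨b, hb⟩), rfl⟩

theorem card_cent_t :
    Nat.card (Subgroup.centralizer ({σ * σ} : Set G)) = 8 * (Nat.card (O1 σ τ) * Nat.card (O2 σ τ)) := by
  haveI := Fintype.ofFinite G
  obtain ⟨K, C, hK⟩ := c.oddCent_t_core
  have := C.card
  rw [← hK, c.card_O, c.J_eq] at this
  simpa using this

theorem card_cent_tτ :
    Nat.card (Subgroup.centralizer ({σ * σ, τ} : Set G)) = 4 * Nat.card (O1 σ τ) := by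
  haveI := Fintype.ofFinite G
  obtain ⟨K, C, hK⟩ := c.oddCent_t_core
  have := c.S.card_pair_cent C 0
  rwa [zpow_zero, one_mul, c.J_eq, ← hK] at this

theorem odd_O1 : Odd (Nat.card (O1 σ τ)) := by
  by_contra h
  rw [Nat.not_odd_iff_even, even_iff_two_dvd] at h
  haveI : Fact (Nat.Prime 2) := ⟨Nat.prime_two⟩
  obtain ⟨x, hx⟩ := exists_prime_orderOf_dvd_card' 2 h
  have := (c.mem_O.mp (c.O1_le x.2)).2
  rw [Subgroup.orderOf_coe, hx] at this
  exact absurd this (by decide)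

theorem eq_one_of_inv_eq {x : G} (hx : x ∈ oddCent (σ * σ)) (h : x⁻¹ = x) : x = 1 := by
  refine eq_of_sq_eq (c.mem_O.mp hx).2 (by simp) ?_
  nth_rw 1 [← h]
  simp

/-- Elements of `P` centralizing a nontrivial element of `O1`. -/
theorem P_cent_O1 {p y : G} (hp : p ∈ (P : Subgroup G)) (hy : y ∈ O1 σ τ) (hy1 : y ≠ 1)
    (hc : p * y = y * p) : p = 1 ∨ p = σ * σ ∨ p = τ ∨ p = σ * σ * τ := by
  obtain ⟨hyO, hyτ⟩ := c.mem_O1.mp hy
  have hσ := (c.σ_inverts hyO).1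
  have hbad : ∀ q : G, q * y * q⁻¹ = y⁻¹ → q * y ≠ y * q := fun q hq hqy =>
    hy1 (c.eq_one_of_inv_eq hyO (by rw [← hq, hqy, mul_inv_cancel_right]))
  have hσ' : σ⁻¹ * y * σ = y⁻¹ := by
    calc σ⁻¹ * y * σ = σ⁻¹ * (σ * y * σ⁻¹)⁻¹ * σ := by rw [hσ, inv_inv]
      _ = y⁻¹ := by group
  rcases c.mem_cases hp with h | h | h | h | h | h | h | h
  · exact Or.inl h
  · exact absurd hc (h ▸ hbad σ hσ)
  · exact Or.inr (Or.inl h)
  · exact absurd hc (h ▸ hbad σ⁻¹ (by rw [inv_inv, hσ']))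
  · exact Or.inr (Or.inr (Or.inl h))
  · exact absurd hc (h ▸ hbad (σ * τ) (by
      rw [show σ * τ * y * (σ * τ)⁻¹ = σ * (τ * y * τ⁻¹) * σ⁻¹ by group,
        inv_eq_of_mul_eq_one_right c.ττ, hyτ, hσ]))
  · exact Or.inr (Or.inr (Or.inr h))
  · exact absurd hc (h ▸ hbad (σ⁻¹ * τ) (by
      rw [show σ⁻¹ * τ * y * (σ⁻¹ * τ)⁻¹ = σ⁻¹ * (τ * y * τ⁻¹) * σ by group,
        inv_eq_of_mul_eq_one_right c.ττ, hyτ, hσ']))

/-- Elements of `P` centralizing nontrivial elements of `O1` and `O2`. -/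
theorem P_cent_both {p y z : G} (hp : p ∈ (P : Subgroup G)) (hy : y ∈ O1 σ τ) (hy1 : y ≠ 1)
    (hcy : p * y = y * p) (hz : z ∈ O2 σ τ) (hz1 : z ≠ 1) (hcz : p * z = z * p) :
    p = 1 ∨ p = σ * σ := by
  obtain ⟨hzO, hzτ⟩ := c.mem_O2.mp hz
  have hne : τ * z ≠ z * τ := fun h => hz1 (c.eq_one_of_inv_eq hzO (by
    rw [← hzτ]; exact conj_eq_of_commute c.ττ h.symm))
  rcases c.P_cent_O1 hp hy hy1 hcy with h | h | h | h
  · exact Or.inl h
  · exact Or.inr h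
  · exact absurd hcz (h ▸ hne)
  · subst h
    refine absurd ?_ hne
    rw [mul_assoc, ← mul_assoc z, (c.mem_O.mp hzO).1, mul_assoc (σ * σ) z] at hcz
    exact mul_left_cancel hcz

/-- The odd part of the centralizer of a subset of `O` meeting both `O1` and `O2`. -/
theorem exists_oddPart_centralizer (T : Set G) (hT : T ⊆ oddCent (σ * σ)) {y z : G}
    (hy : y ∈ O1 σ τ) (hy1 : y ≠ 1) (hyT : y ∈ T) (hz : z ∈ O2 σ τ) (hz1 : z ≠ 1) (hzT : z ∈ T) :
    ∃ U : Subgroup G, ∀ x, x ∈ U ↔ x ∈ Subgroup.centralizer T ∧ Odd (orderOf x) := by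
  refine exists_oddPart c.ord_t (Subgroup.mem_centralizer_iff.mpr fun s hs =>
    (c.mem_O.mp (hT hs)).1) fun x hx hxt => ?_
  obtain ⟨p, hp, k, hk, rfl⟩ := c.cent_t hxt
  have hps : ∀ s ∈ T, p * s = s * p := fun s hs => by
    have h1 : s * (p * k) = p * k * s := Subgroup.mem_centralizer_iff.mp hx s hs
    rw [mul_assoc p k s, (c.σ_inverts hk).2 s (hT hs), ← mul_assoc p s k, ← mul_assoc s p k] at h1
    exact (mul_right_cancel h1).symm
  rcases c.P_cent_both hp hy hy1 (hps y hyT) hz hz1 (hps z hzT) with rfl | rfl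
  · rw [one_mul]; exact Or.inl (c.mem_O.mp hk).2
  · refine Or.inr ?_
    rw [mul_assoc, (c.mem_O.mp hk).1, ← mul_assoc, c.tt, one_mul]
    exact (c.mem_O.mp hk).2

theorem ord_τ : orderOf τ = 2 := c.S.inv

theorem ord_tτ : orderOf (σ * σ * τ) = 2 := by
  refine orderOf_eq_prime ?_ fun h => c.S.tau_notMem ?_
  · rw [pow_two, show σ * σ * τ * (σ * σ * τ) = σ * σ * (τ * (σ * σ)) * τ by group, c.τ_comm,
      show σ * σ * (σ * σ * τ) * τ = σ * σ * (σ * σ) * (τ * τ) by group, c.tt, c.ττ, mul_one]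
  · have : τ = (σ * σ)⁻¹ := eq_inv_of_mul_eq_one_right h
    rw [this]
    exact inv_mem (mul_mem (Subgroup.mem_zpowers σ) (Subgroup.mem_zpowers σ))

theorem t_ne_τ : σ * σ ≠ τ := fun h =>
  c.S.tau_notMem (h ▸ mul_mem (Subgroup.mem_zpowers σ) (Subgroup.mem_zpowers σ))

theorem στσ : σ * τ * σ⁻¹ = σ * σ * τ := by
  rw [← c.τστ, show σ * τ * (τ * σ * τ) = σ * (τ * τ) * σ * τ by group, c.ττ, mul_one]

/-- An element exchanging `t` and `τ` and inverting the odd centralizer of `t τ`. -/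
theorem exists_exchange : ∃ b : G, b * (σ * σ) * b⁻¹ = τ ∧ b * τ * b⁻¹ = σ * σ ∧
    ∀ x ∈ oddCent (σ * σ * τ), b * x * b⁻¹ = x⁻¹ := by
  have hne : σ * σ ≠ σ * σ * τ := fun h => c.S.tau_ne (left_eq_mul.mp h)
  obtain ⟨b, hb1, hb2, -, hb3⟩ := c.exists_swap c.ord_tτ c.ord_t hne (by
    rw [mul_assoc (σ * σ) τ, c.τ_comm])
  have e : σ * σ * τ * (σ * σ) = τ := by
    rw [mul_assoc, c.τ_comm, ← mul_assoc, c.tt, one_mul]
  rw [e] at hb2
  refine ⟨b, hb2, ?_, hb3⟩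
  calc b * τ * b⁻¹ = b * (σ * σ * τ * (σ * σ)) * b⁻¹ := by rw [e]
    _ = b * (σ * σ * τ) * b⁻¹ * (b * (σ * σ) * b⁻¹) := by group
    _ = σ * σ * τ * τ := by rw [hb1, hb2]
    _ = σ * σ := by rw [mul_assoc, c.ττ, mul_one]

theorem O1_le_tτ {x : G} (hx : x ∈ O1 σ τ) : x ∈ oddCent (σ * σ * τ) := by
  obtain ⟨hxO, hxτ⟩ := mem_fixIn.mp hx
  obtain ⟨hxt, hxo⟩ := c.mem_O.mp hxO
  exact (c.mem_oddCent c.ord_tτ).mpr
    ⟨by rw [← mul_assoc, hxt, mul_assoc, hxτ, ← mul_assoc], hxo⟩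

end Cfg

end Cfsg.Agent.SmallCent88
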