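import Cfsg.Agent.SmallCent88.Chars
import Cfsg.Agent.S0495
import Cfsg.Agent.S0497
import Cfsg.Agent.S0984
import Mathlib.GroupTheory.SpecificGroups.Cyclic
import Mathlib.Algebra.Group.Pointwise.Set.Basic

/-!
# Simple groups with dihedral Sylow 2-subgroup of order 8 and an element of order four with
centralizer of order four
-/

set_option autoImplicit false
set_option linter.style.haveILetI false

namespace Cfsg.Agent.SmallCent88

open scoped Pointwise

variable {G : Type*} [Group G] [Finite G] {P : Sylow 2 G} {σ τ : G}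

namespace Cfg

variable (c : Cfg P σ τ)
include c

/-- The order 7560 does not occur. -/
theorem not_five [IsSimpleGroup G] (hk₁ : Nat.card (O1 σ τ) = 5) (hk₂ : O2 σ τ = ⊥)
    (hG : Nat.card G = 7560) : False := by
  haveI : Fact (Nat.Prime 5) := ⟨by norm_num⟩
  have hk2c : Nat.card (O2 σ τ) = 1 := Subgroup.card_eq_one.mpr hk₂
  have hne : O1 σ τ ≠ ⊥ := fun h => by rw [h, Subgroup.card_bot] at hk₁; omega
  have hcardi : ∀ i : G, orderOf i = 2 → Nat.card (oddCent i) = 5 := by
    intro i hi
    obtain ⟨g, hg⟩ := isConj_iff.mp (c.conj i hi)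
    rw [← hg, card_oddCent_conj, c.card_O, hk₁, hk2c]
  have hU : ∀ x ∈ Subgroup.centralizer (O1 σ τ : Set G), x * (σ * τ) = σ * τ * x →
      Odd (orderOf x) → x ∈ oddCent (σ * σ) := by
    intro x hx hxu hxo
    by_contra hxn
    have hx5 : orderOf x ∣ 5 :=
      hcardi _ c.ord_στ ▸ Subgroup.orderOf_dvd_natCard _ ((c.mem_oddCent c.ord_στ).mpr ⟨hxu, hxo⟩)
    have hx5' : orderOf x = 5 := by
      rcases (Nat.dvd_prime (by norm_num)).mp hx5 with h | h
      · exact absurd (orderOf_eq_one_iff.mp h ▸ one_mem (oddCent (σ * σ))) hxn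
      · exact h
    have hnorm : O1 σ τ ≤ Subgroup.normalizer (Subgroup.zpowers x : Set G) := fun y hy => by
      refine Subgroup.centralizer_le_normalizer _ (Subgroup.mem_centralizer_iff.mpr ?_)
      rintro z ⟨i, rfl⟩
      exact ((show Commute x y from (Subgroup.mem_centralizer_iff.mp hx y hy).symm).zpow_left i).eq
    have hdisj : O1 σ τ ⊓ Subgroup.zpowers x = ⊥ := by
      rw [Subgroup.eq_bot_iff_forall]
      rintro z ⟨hz1, hz2⟩
      have h := orderOf_dvd_of_mem_zpowers hz2
      rw [hx5'] at h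
      rcases (Nat.dvd_prime (by norm_num)).mp h with h | h
      · exact orderOf_eq_one_iff.mp h
      · exfalso
        have heq : Subgroup.zpowers z = Subgroup.zpowers x :=
          Subgroup.eq_of_le_of_card_ge (Subgroup.zpowers_le.mpr hz2)
            (by rw [Nat.card_zpowers, Nat.card_zpowers, h, hx5'])
        exact hxn (c.O1_le (Subgroup.zpowers_le.mpr hz1 (heq ▸ Subgroup.mem_zpowers x)))
    have h25 : Nat.card (O1 σ τ ⊔ Subgroup.zpowers x : Subgroup G) = 25 := by
      have hmul := Subgroup.coe_mul_of_left_le_normalizer_right (O1 σ τ) (Subgroup.zpowers x) hnorm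
      have hinj := Subgroup.mul_injective_of_disjoint (disjoint_iff.mpr hdisj)
      have e : ((O1 σ τ : Set G) * (Subgroup.zpowers x : Set G) : Set G) =
          Set.range fun q : O1 σ τ × Subgroup.zpowers x => (q.1 : G) * q.2 := by
        ext g
        simp [Set.mem_mul, Subgroup.mem_zpowers_iff]
      show Nat.card ((O1 σ τ ⊔ Subgroup.zpowers x : Subgroup G) : Set G) = 25
      rw [hmul, e, Nat.card_range_of_injective hinj, Nat.card_prod, hk₁, Nat.card_zpowers, hx5']
    have := Subgroup.card_subgroup_dvd_card (O1 σ τ ⊔ Subgroup.zpowers x)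
    rw [h25, hG] at this
    omega
  obtain ⟨-, hX⟩ := c.count hne hU
  rw [hk₁] at hX
  set Q := O1 σ τ with hQ
  set X := Subgroup.centralizer (Q : Set G) with hXdef
  set N := Subgroup.normalizer (Q : Set G) with hNdef
  have hXN : X ≤ N := Subgroup.centralizer_le_normalizer _
  -- the normalizer has order 120
  have hu : σ * τ ∈ N := by
    have hconj : ∀ y ∈ Q, σ * τ * y * (σ * τ)⁻¹ ∈ Q := fun y hy => by
      rw [c.u_conj_O1 hy]; exact inv_mem hy
    rw [hNdef, Subgroup.mem_normalizer_iff]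
    refine fun y => ⟨hconj y, fun h => ?_⟩
    have h' := hconj _ h
    rw [c.u_inv] at h'
    rwa [show σ * τ * (σ * τ * y * (σ * τ)) * (σ * τ) = σ * τ * (σ * τ) * y * (σ * τ * (σ * τ)) by
      group, c.στστ, one_mul, mul_one] at h'
  have hrel : (X.subgroupOf N).index ∣ 4 := by
    have hker : (Subgroup.normalizerMonoidHom Q).ker = X.subgroupOf N :=
      Subgroup.normalizerMonoidHom_ker Q
    rw [← hker, Subgroup.index_ker]
    haveI : IsCyclic Q := isCyclic_of_prime_card hk₁
    refine (Subgroup.card_subgroup_dvd_card _).trans ?_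
    rw [IsCyclic.card_mulAut, hk₁]
    decide
  have hNX : Nat.card N = (X.subgroupOf N).index * 60 := by
    rw [← Subgroup.index_mul_card (X.subgroupOf N),
      Nat.card_congr (Subgroup.subgroupOfEquivOfLe hXN).toEquiv, hX]
  have hidx1 : (X.subgroupOf N).index ≠ 1 := fun h => by
    rw [Subgroup.index_eq_one] at h
    exact c.u_notMem_X hne (Subgroup.subgroupOf_eq_top.mp h hu)
  have hN : Nat.card N = 120 := by
    have hd := Subgroup.card_subgroup_dvd_card N
    rw [hNX, hG] at hd
    rw [hNX]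
    have h4 := Nat.le_of_dvd (by norm_num) hrel
    interval_cases h : (X.subgroupOf N).index <;> omega
  -- but there are `1 mod 5` Sylow subgroups
  obtain ⟨S, hS⟩ := (IsPGroup.of_card (p := 5) (n := 1) (by rw [hk₁, pow_one]) : IsPGroup 5 Q).exists_le_sylow
  have hSc : Nat.card (S : Subgroup G) = 5 := by
    have hf : (7560 : ℕ).factorization 5 = 1 := by
      have := padicValNat.eq_zero_of_not_dvd (p := 5) (n := 1512) (by norm_num)
      rw [Nat.factorization_def _ (by norm_num), show (7560 : ℕ) = 5 * 1512 by norm_num,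
        padicValNat.mul (by norm_num) (by norm_num), padicValNat.self (by norm_num), this]
    rw [S.card_eq_multiplicity, hG, hf, pow_one]
  have hSQ : (S : Subgroup G) = Q :=
    (Subgroup.eq_of_le_of_card_ge hS (by rw [hSc, hk₁])).symm
  have h1 := card_sylow_modEq_one 5 G
  rw [S.card_eq_index_normalizer, show (S : Set G) = (Q : Set G) by rw [← hSQ]; rfl, ← hNdef] at h1
  have h2 := Subgroup.index_mul_card N
  rw [hN, hG] at h2
  have h3 : N.index = 63 := by omega
  rw [h3] at h1
  exact absurd h1 (by decide)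

/-- One of the two parts trivial. -/
theorem one_trivial [IsSimpleGroup G] (h1 : O1 σ τ ≠ ⊥) (h2 : O2 σ τ = ⊥) :
    Nonempty (G ≃* alternatingGroup (Fin 7)) := by
  obtain ⟨M, D, D₂, D₃, hG, hdeg, -⟩ := c.exists_data
  rw [Subgroup.card_eq_one.mpr h2, Nat.cast_one] at hdeg hG
  have hk : 3 ≤ Nat.card (O1 σ τ) := by
    have := c.odd_O1
    have h' : Nat.card (O1 σ τ) ≠ 1 := fun h => h1 (Subgroup.card_eq_one.mp h)
    obtain ⟨i, hi⟩ := this
    omega
  rcases hdeg.one (by exact_mod_cast hk) with ⟨hk3, ho⟩ | ⟨hk5, ho⟩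
  · rw [← hG] at ho
    exact S0984.result (by exact_mod_cast ho)
  · rw [← hG] at ho
    exact (c.not_five (by exact_mod_cast hk5) h2 (by exact_mod_cast ho)).elim

/-- The classification in this configuration. -/
theorem classify [IsSimpleGroup G] :
    Nonempty (G ≃* alternatingGroup (Fin 6)) ∨ Nonempty (G ≃* alternatingGroup (Fin 7)) ∨
      Nonempty (G ≃* Matrix.ProjectiveSpecialLinearGroup (Fin 2) (ZMod 7)) := by
  by_cases h1 : O1 σ τ = ⊥ <;> by_cases h2 : O2 σ τ = ⊥
  · obtain ⟨M, D, D₂, D₃, hG, hdeg, -⟩ := c.exists_data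
    rw [Subgroup.card_eq_one.mpr h1, Subgroup.card_eq_one.mpr h2, Nat.cast_one] at hdeg hG
    obtain ⟨e, j, -, he, hj, hM, hjodd, -⟩ := hdeg.base
    have hj' : j = 1 ∨ j = -1 := by
      have h : j ∣ 2 := ⟨e, by linarith⟩
      obtain ⟨i, hi⟩ := hjodd
      have hb1 := Int.le_of_dvd two_pos h
      have hb2 := Int.le_of_dvd two_pos (neg_dvd.mpr h)
      omega
    haveI : Fact (Nat.Prime 7) := ⟨by norm_num⟩
    rcases hj' with rfl | rfl
    · obtain rfl : e = 2 := by omega
      rw [hM] at hG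
      exact Or.inl (S0497.result (by exact_mod_cast hG.trans (by norm_num : _ = (360 : ℤ))))
    · obtain rfl : e = -2 := by omega
      rw [hM] at hG
      exact Or.inr (Or.inr (S0495.result (by exact_mod_cast hG.trans (by norm_num : _ = (168 : ℤ)))
        (ZMod.card 7)))
  · refine Or.inr (Or.inl (c.symm.one_trivial ?_ ?_))
    · rw [c.O1_symm]; exact h2
    · rw [c.O2_symm]; exact h1
  · exact Or.inr (Or.inl (c.one_trivial h1 h2))
  · exfalso
    obtain ⟨M, D, D₂, D₃, hG, hdeg, χ, d, δ, hδ, hd, hD₂, hval, hker⟩ := c.exists_data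
    obtain ⟨hk, U, hUc, -⟩ := c.exists_big h1 h2
    rw [← hk] at hdeg hG
    have hdvd : ((Nat.card (O1 σ τ) : ℤ)) ^ 4 ∣
        8 * ((Nat.card (O1 σ τ) : ℤ) * (Nat.card (O1 σ τ) : ℤ) * M) := by
      rw [← hG, ← Nat.cast_pow, ← hUc]
      exact_mod_cast Subgroup.card_subgroup_dvd_card U
    refine c.no_small_char χ δ d hd ?_ hval hker h1 h2
    rcases hdeg.equal hdvd with ⟨h, -⟩ | ⟨h, -⟩ <;> rw [hD₂] at h <;>
      rcases hδ with rfl | rfl <;> omega

end Cfg

end Cfsg.Agent.SmallCent88
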